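import Groth.Agent.FrobAlg.K675.PBasis
import Groth.Agent.Sga5.RelFrobEtale
import Groth.Agent.Pi1B.EtaleDiff
import Mathlib.RingTheory.TensorProduct.Free

/-!
# `p`-bases of étale algebras over polynomial rings

* `isPB_mvPolynomial` : the monomials with exponents `< p` are a basis of `k[X₁,…,X_n]` over itself
  through Frobenius, `k` perfect.
* `IsPB.etale` : `p`-bases are preserved by étale algebras.
* `isPB_of_smooth` : if `dt₁,…,dt_n` is a basis of `Ω_{A/k}`, `A` smooth over the perfect field
  `k`, the monomials `t^e`, `0 ≤ e_i < p`, are a basis of `A` over itself through Frobenius.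
-/

set_option autoImplicit false
universe u v w

namespace K675.EtalePB

open K675.PBasis TensorProduct FrobAlg

/-- The exponent vector attached to a function with values in `Fin p`. -/
noncomputable def expo {p n : ℕ} (e : Fin n → Fin p) : Fin n →₀ ℕ :=
  Finsupp.equivFunOnFinite.symm fun i => (e i : ℕ)

theorem expo_apply {p n : ℕ} (e : Fin n → Fin p) (i : Fin n) : expo e i = (e i : ℕ) := rfl

theorem isPB_mvPolynomial_monomial (p : ℕ) [Fact p.Prime] (k : Type u) [CommRing k] [CharP k p]
    [PerfectRing k p] (n : ℕ) :
    IsPB p (fun e : Fin n → Fin p => MvPolynomial.monomial (expo e) (1 : k)) := by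
  classical
  have hp : 0 < p := (Fact.out : p.Prime).pos
  have key : ∀ (c : (Fin n → Fin p) → MvPolynomial (Fin n) k) (m : Fin n →₀ ℕ) (e₀ : Fin n → Fin p),
      MvPolynomial.coeff (p • m + expo e₀)
        (∑ e, c e ^ p * MvPolynomial.monomial (expo e) (1 : k)) =
        (MvPolynomial.coeff m (c e₀)) ^ p := by
    intro c m e₀
    rw [MvPolynomial.coeff_sum, Finset.sum_eq_single e₀]
    · rw [MvPolynomial.coeff_mul_monomial, mul_one, ← MvPolynomial.map_frobenius_expand,
        MvPolynomial.coeff_map, MvPolynomial.coeff_expand_smul p hp.ne', frobenius_def]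
    · intro e _ he
      rw [MvPolynomial.coeff_mul_monomial']
      split_ifs with h
      · obtain ⟨i, hi⟩ : ∃ i, e i ≠ e₀ i := by
          by_contra hcon
          push Not at hcon
          exact he (funext hcon)
        rw [mul_one, ← MvPolynomial.map_frobenius_expand, MvPolynomial.coeff_map,
          MvPolynomial.coeff_expand_of_not_dvd (i := i), map_zero]
        rintro ⟨c, hc⟩
        apply hi
        ext
        have hle := h i
        rw [Finsupp.add_apply, Finsupp.smul_apply, smul_eq_mul, expo_apply, expo_apply] at hle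
        rw [Finsupp.tsub_apply, Finsupp.add_apply, Finsupp.smul_apply, smul_eq_mul, expo_apply,
          expo_apply] at hc
        have h2 : p * m i + (e₀ i : ℕ) = p * c + (e i : ℕ) := by omega
        have h3 := congrArg (· % p) h2
        simp only [Nat.mul_add_mod, Nat.mod_eq_of_lt (e₀ i).2, Nat.mod_eq_of_lt (e i).2] at h3
        exact h3.symm
      · rfl
    · intro h
      exact absurd (Finset.mem_univ _) h
  have hdecomp : ∀ v : Fin n →₀ ℕ, ∃ (m : Fin n →₀ ℕ) (e : Fin n → Fin p), v = p • m + expo e := by
    intro v
    refine ⟨Finsupp.equivFunOnFinite.symm fun i => v i / p, fun i => ⟨v i % p, Nat.mod_lt _ hp⟩, ?_⟩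
    ext i
    exact (Nat.div_add_mod (v i) p).symm
  rw [isPB_iff]
  constructor
  · intro c hc
    funext e
    ext m
    have h1 := key c m e
    rw [hc, MvPolynomial.coeff_zero] at h1
    rw [Pi.zero_apply, MvPolynomial.coeff_zero]
    have h2 : frobenius k p (MvPolynomial.coeff m (c e)) = frobenius k p 0 := by
      rw [map_zero]
      exact h1.symm
    exact (frobeniusEquiv k p).injective h2
  · intro b
    -- additivity reduces to monomials
    induction b using MvPolynomial.induction_on' with
    | monomial v a =>
      obtain ⟨m, e, rfl⟩ := hdecomp v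
      refine ⟨Pi.single e (MvPolynomial.monomial m ((frobeniusEquiv k p).symm a)), ?_⟩
      rw [Finset.sum_eq_single e]
      · have h1 : ((frobeniusEquiv k p).symm a) ^ p = a := (frobeniusEquiv k p).apply_symm_apply a
        rw [Pi.single_eq_same, MvPolynomial.monomial_pow, MvPolynomial.monomial_mul, mul_one, h1]
      · intro e' _ he'
        rw [Pi.single_eq_of_ne he', zero_pow hp.ne', zero_mul]
      · intro h
        exact absurd (Finset.mem_univ _) h
    | add x y hx hy =>
      obtain ⟨c, hc⟩ := hx
      obtain ⟨d, hd⟩ := hy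
      refine ⟨c + d, ?_⟩
      rw [hc, hd, ← Finset.sum_add_distrib]
      refine Finset.sum_congr rfl fun e _ => ?_
      rw [Pi.add_apply, add_pow_char, add_mul]

/-- `p`-bases are preserved by étale algebras (same universe). -/
theorem IsPB.etale_aux {p : ℕ} [Fact p.Prime] {P A : Type u} [CommRing P] [CommRing A] [CharP P p]
    [CharP A p] [Algebra P A] [Algebra.Etale P A] {ι : Type w} [Fintype ι] {g : ι → P}
    (h : IsPB p g) : IsPB p (fun i => algebraMap P A (g i)) := by
  classical
  -- the basis of `Twist p P` over `P`
  let φ : (ι → P) →ₗ[P] Twist p P :=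
    { toFun := fun c => toTwist p P (∑ i, c i ^ p * g i)
      map_add' := fun c d => by
        rw [← map_add, ← Finset.sum_add_distrib]
        congr 1
        refine Finset.sum_congr rfl fun i _ => ?_
        rw [Pi.add_apply, add_pow_char, add_mul]
      map_smul' := fun a c => by
        rw [RingHom.id_apply, Algebra.smul_def (A := Twist p P), algebraMap_twist, ← map_mul,
          Finset.mul_sum]
        congr 1
        refine Finset.sum_congr rfl fun i _ => ?_
        rw [Pi.smul_apply, smul_eq_mul, mul_pow, mul_assoc] }
  have hφ : Function.Bijective φ := (toTwist p P).bijective.comp h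
  let β : Module.Basis ι P (Twist p P) := Module.Basis.ofEquivFun (LinearEquiv.ofBijective φ hφ).symm
  have hβ : ∀ i, β i = toTwist p P (g i) := by
    intro i
    rw [Module.Basis.coe_ofEquivFun, LinearEquiv.symm_symm]
    change toTwist p P (∑ j, (Pi.single i (1 : P) : ι → P) j ^ p * g j) = _
    congr 1
    rw [Finset.sum_eq_single i]
    · simp
    · intro j _ hj
      rw [Pi.single_eq_of_ne hj, zero_pow (Fact.out : p.Prime).ne_zero, zero_mul]
    · intro h
      exact absurd (Finset.mem_univ _) h
  let β' : Module.Basis ι A (A ⊗[P] Twist p P) := β.baseChange A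
  have hbij := Groth.Agent.Sga5.RelFrobEtale.relFrob_bijective p P A inferInstance
  have hcomp : (fun c : ι → A => ∑ i, c i ^ p * algebraMap P A (g i)) =
      (relFrob p P A) ∘ β'.equivFun.symm := by
    funext c
    rw [Function.comp_apply, Module.Basis.equivFun_symm_apply, map_sum]
    refine Finset.sum_congr rfl fun i _ => ?_
    rw [Module.Basis.baseChange_apply, hβ, TensorProduct.smul_tmul', smul_eq_mul, mul_one,
      Groth.Agent.S3191.relFrob_tmul, RingEquiv.symm_apply_apply]
  unfold IsPB
  rw [hcomp]
  exact hbij.comp β'.equivFun.symm.bijective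

theorem etale_comp {R S T : Type*} [CommRing R] [CommRing S] [CommRing T] (f : R →+* S)
    (g : S →+* T) (hf : f.Etale) (hg : g.Etale) : (g.comp f).Etale := by
  let _ := f.toAlgebra
  let _ := g.toAlgebra
  let _ := (g.comp f).toAlgebra
  have : IsScalarTower R S T := IsScalarTower.of_algebraMap_eq fun _ => rfl
  have : Algebra.Etale R S := hf
  have : Algebra.Etale S T := hg
  exact Algebra.Etale.comp R S T

/-- `p`-bases are preserved by étale ring homomorphisms. -/
theorem isPB_of_etale {p : ℕ} [Fact p.Prime] {P : Type u} {A : Type v} [CommRing P] [CommRing A]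
    [CharP P p] [CharP A p] (f : P →+* A) (hf : f.Etale) {ι : Type w} [Fintype ι] {g : ι → P}
    (h : IsPB p g) : IsPB p (fun i => f (g i)) := by
  let eP : ULift.{v} P ≃+* P := ULift.ringEquiv
  let eA : ULift.{u} A ≃+* A := ULift.ringEquiv
  let f' : ULift.{v} P →+* ULift.{u} A := (eA.symm : A →+* ULift.{u} A).comp (f.comp (eP : ULift.{v} P →+* P))
  have hf' : f'.Etale := by
    have h1 : (eP : ULift.{v} P →+* P).Etale := RingHom.Etale.of_bijective eP.bijective
    have h2 : (eA.symm : A →+* ULift.{u} A).Etale := RingHom.Etale.of_bijective eA.symm.bijective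
    exact etale_comp _ _ (etale_comp _ _ h1 hf) h2
  let _ := f'.toAlgebra
  have : Algebra.Etale (ULift.{v} P) (ULift.{u} A) := hf'
  have h1 : IsPB p (fun i => eP.symm (g i)) := h.ringEquiv eP.symm
  have h2 := (IsPB.etale_aux (A := ULift.{u} A) h1).ringEquiv eA
  exact h2

/-- The monomials in étale coordinates form a `p`-basis. -/
theorem isPB_of_smooth (p : ℕ) [Fact p.Prime] (k : Type u) [Field k] [CharP k p] [PerfectRing k p]
    (A : Type v) [CommRing A] [Algebra k A] [Algebra.Smooth k A] [CharP A p]
    {n : ℕ} (t : Fin n → A) (b : Module.Basis (Fin n) A (KaehlerDifferential k A))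
    (hb : ∀ i, b i = KaehlerDifferential.D k A (t i)) :
    IsPB p (fun e : Fin n → Fin p => ∏ i, t i ^ (e i : ℕ)) := by
  let f : MvPolynomial (Fin n) k →ₐ[k] A := MvPolynomial.aeval t
  have hfe : f.toRingHom.FormallyEtale := by
    rw [Groth.Agent.Pi1B.EtaleDiff.formallyEtale_aeval_iff]
    have h1 : (Finsupp.linearCombination A (fun i => KaehlerDifferential.D k A (t i))) =
        b.repr.symm.toLinearMap := by
      ext i
      simp [hb]
    rw [h1]
    exact b.repr.symm.bijective
  have hf : f.toRingHom.Etale := by
    let := f.toRingHom.toAlgebra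
    have : IsScalarTower k (MvPolynomial (Fin n) k) A := .of_algebraMap_eq' (by
      ext a; simp [RingHom.algebraMap_toAlgebra])
    have : Algebra.FormallyEtale (MvPolynomial (Fin n) k) A := hfe
    have : Algebra.FinitePresentation (MvPolynomial (Fin n) k) A :=
      Algebra.FinitePresentation.of_restrict_scalars_finitePresentation k (MvPolynomial (Fin n) k) A
    exact (⟨inferInstance, inferInstance⟩ : Algebra.Etale (MvPolynomial (Fin n) k) A)
  have h := isPB_of_etale f.toRingHom hf (isPB_mvPolynomial_monomial p k n)
  have h2 : (fun e : Fin n → Fin p => ∏ i, t i ^ (e i : ℕ)) =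
      fun e => f.toRingHom (MvPolynomial.monomial (expo e) (1 : k)) := by
    funext e
    change _ = MvPolynomial.aeval t (MvPolynomial.monomial (expo e) (1 : k))
    rw [MvPolynomial.aeval_monomial, map_one, one_mul, Finsupp.prod_fintype]
    · rfl
    · intro i
      rw [pow_zero]
  rw [h2]
  exact h

end K675.EtalePB
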