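import Groth.Agent.FrobAlg.K675.FFinite
import Mathlib.RingTheory.Localization.Integer
import Mathlib.RingTheory.Localization.FractionRing
import Mathlib.LinearAlgebra.Dimension.Finrank
import Mathlib.LinearAlgebra.Dimension.Constructions
import Mathlib.LinearAlgebra.FreeModule.Basic
import Mathlib.Algebra.Polynomial.Expand
import Mathlib.RingTheory.MvPolynomial.Expand

/-!
# Bases of a ring over itself through Frobenius

`IsPB p g` : the finite family `g` is a basis of `R` over itself through Frobenius.
* `IsPB.powerSeries`, `IsPB.polynomial`, `IsPB.fractionField`, `IsPB.ringEquiv`,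
  `exists_isPB_mvPolynomial`, `finrank_of_isPB`, `finrank_eq_of_finite`.
-/

set_option autoImplicit false
universe u v w

namespace K675.PBasis

/-- `g` is a basis of `R` over itself through Frobenius. -/
def IsPB (p : ℕ) {R : Type u} [CommRing R] {ι : Type w} [Fintype ι] (g : ι → R) : Prop :=
  Function.Bijective (fun c : ι → R => ∑ i, c i ^ p * g i)

section

variable {p : ℕ} [Fact p.Prime]

theorem isPB_iff {R : Type u} [CommRing R] [CharP R p] {ι : Type w} [Fintype ι] (g : ι → R) :
    IsPB p g ↔ (∀ c : ι → R, ∑ i, c i ^ p * g i = 0 → c = 0) ∧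
      ∀ b : R, ∃ c : ι → R, b = ∑ i, c i ^ p * g i := by
  constructor
  · intro h
    refine ⟨fun c hc => h.1 ?_, fun b => ?_⟩
    · change ∑ i, c i ^ p * g i = ∑ i, (0 : ι → R) i ^ p * g i
      rw [hc]
      simp [zero_pow (Fact.out : p.Prime).ne_zero]
    · obtain ⟨c, hc⟩ := h.2 b
      exact ⟨c, hc.symm⟩
  · rintro ⟨h1, h2⟩
    refine ⟨fun c d hcd => ?_, fun b => ?_⟩
    · rw [← sub_eq_zero]
      apply h1
      have hcd' : ∑ i, c i ^ p * g i = ∑ i, d i ^ p * g i := hcd
      rw [← sub_eq_zero, ← Finset.sum_sub_distrib] at hcd'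
      rw [← hcd']
      refine Finset.sum_congr rfl fun i _ => ?_
      rw [Pi.sub_apply, sub_pow_char, sub_mul]
    · obtain ⟨c, hc⟩ := h2 b
      exact ⟨c, hc.symm⟩

omit [Fact p.Prime] in
/-- Transport along a ring isomorphism. -/
theorem IsPB.ringEquiv {R : Type u} {S : Type v} [CommRing R] [CommRing S] {ι : Type w} [Fintype ι]
    {g : ι → R} (h : IsPB p g) (e : R ≃+* S) : IsPB p (fun i => e (g i)) := by
  have h1 : (fun c : ι → S => ∑ i, c i ^ p * e (g i)) =
      e ∘ (fun c : ι → R => ∑ i, c i ^ p * g i) ∘ (fun c : ι → S => fun i => e.symm (c i)) := by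
    funext c
    simp only [Function.comp_apply, map_sum, map_mul, map_pow, RingEquiv.apply_symm_apply]
  unfold IsPB
  rw [h1]
  refine e.bijective.comp (h.comp ?_)
  refine ⟨fun c d hcd => ?_, fun c => ⟨fun i => e (c i), ?_⟩⟩
  · funext i
    exact e.symm.injective (congrFun hcd i)
  · funext i
    exact e.symm_apply_apply _

omit [Fact p.Prime] in
/-- Reindexing. -/
theorem IsPB.reindex {R : Type u} [CommRing R] {ι ι' : Type*} [Fintype ι] [Fintype ι']
    {g : ι → R} (h : IsPB p g) (e : ι' ≃ ι) : IsPB p (g ∘ e) := by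
  have h1 : (fun c : ι' → R => ∑ i, c i ^ p * (g ∘ e) i) =
      (fun c : ι → R => ∑ i, c i ^ p * g i) ∘ (fun c : ι' → R => c ∘ e.symm) := by
    funext c
    simp only [Function.comp_apply]
    rw [← Equiv.sum_comp e]
    simp
  unfold IsPB
  rw [h1]
  exact h.comp ((Equiv.arrowCongr e (Equiv.refl R)).bijective)

/-- Power series over a perfect ring. -/
theorem isPB_powerSeries (p : ℕ) [Fact p.Prime] (k : Type u) [CommRing k] [CharP k p]
    [PerfectRing k p] [CharP (PowerSeries k) p] :
    IsPB p (fun j : Fin p => (PowerSeries.X : PowerSeries k) ^ (j : ℕ)) := by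
  have hp : 0 < p := (Fact.out : p.Prime).pos
  have key : ∀ (c : Fin p → PowerSeries k) (m : ℕ) (j₀ : Fin p),
      PowerSeries.coeff (p * m + j₀) (∑ j, c j ^ p * (PowerSeries.X : PowerSeries k) ^ (j : ℕ)) =
        (PowerSeries.coeff m (c j₀)) ^ p := by
    intro c m j₀
    rw [map_sum, Finset.sum_eq_single j₀]
    · rw [K675.FFinite.powerSeries_pow_p, PowerSeries.coeff_mul_X_pow, PowerSeries.coeff_map,
        PowerSeries.coeff_expand_mul, frobenius_def]
    · intro j _ hj
      rw [K675.FFinite.powerSeries_pow_p, PowerSeries.coeff_mul_X_pow']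
      split_ifs with h
      · rw [PowerSeries.coeff_map, PowerSeries.coeff_expand_of_not_dvd, map_zero]
        rintro ⟨c, hc⟩
        apply hj
        ext
        have h2 : p * m + (j₀ : ℕ) = p * c + (j : ℕ) := by omega
        have h3 := congrArg (· % p) h2
        simp only [Nat.mul_add_mod, Nat.mod_eq_of_lt j₀.2, Nat.mod_eq_of_lt j.2] at h3
        exact h3.symm
      · rfl
    · intro h
      exact absurd (Finset.mem_univ _) h
  rw [isPB_iff]
  constructor
  · intro c hc
    funext j
    ext m
    have h1 := key c m j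
    rw [hc, map_zero] at h1
    rw [Pi.zero_apply, map_zero]
    have h2 : frobenius k p (PowerSeries.coeff m (c j)) = frobenius k p 0 := by
      rw [map_zero]
      exact h1.symm
    exact (frobeniusEquiv k p).injective h2
  · intro b
    refine ⟨fun j => PowerSeries.mk fun m => (frobeniusEquiv k p).symm
      (PowerSeries.coeff (p * m + j) b), ?_⟩
    ext n
    have hn : n = p * (n / p) + ((⟨n % p, Nat.mod_lt _ hp⟩ : Fin p) : ℕ) := (Nat.div_add_mod n p).symm
    rw [hn, key, PowerSeries.coeff_mk]
    exact ((frobeniusEquiv k p).apply_symm_apply _).symm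

/-- Polynomial rings. -/
theorem IsPB.polynomial {R : Type u} [CommRing R] [CharP R p] {ι : Type w} [Fintype ι] {g : ι → R}
    (h : IsPB p g) :
    IsPB p (fun i : ι × Fin p => Polynomial.C (g i.1) * Polynomial.X ^ (i.2 : ℕ)) := by
  have hp : 0 < p := (Fact.out : p.Prime).pos
  have key : ∀ (c : ι × Fin p → Polynomial R) (m : ℕ) (j₀ : Fin p),
      (∑ i, c i ^ p * (Polynomial.C (g i.1) * Polynomial.X ^ (i.2 : ℕ))).coeff (p * m + j₀) =
        ∑ i, ((c (i, j₀)).coeff m) ^ p * g i := by
    intro c m j₀
    rw [Polynomial.finsetSum_coeff, Fintype.sum_prod_type]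
    refine Finset.sum_congr rfl fun i _ => ?_
    rw [Finset.sum_eq_single j₀]
    · change (c (i, j₀) ^ p * (Polynomial.C (g i) * Polynomial.X ^ (j₀ : ℕ))).coeff _ = _
      rw [← mul_assoc, Polynomial.coeff_mul_X_pow, Polynomial.coeff_mul_C,
        ← Polynomial.map_frobenius_expand, Polynomial.coeff_map, mul_comm p m,
        Polynomial.coeff_expand_mul hp, frobenius_def]
    · intro j _ hj
      change (c (i, j) ^ p * (Polynomial.C (g i) * Polynomial.X ^ (j : ℕ))).coeff _ = _
      rw [← mul_assoc, Polynomial.coeff_mul_X_pow']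
      split_ifs with h
      · rw [Polynomial.coeff_mul_C, ← Polynomial.map_frobenius_expand, Polynomial.coeff_map,
          Polynomial.coeff_expand hp, if_neg, map_zero, zero_mul]
        rintro ⟨c, hc⟩
        apply hj
        ext
        have h2 : p * m + (j₀ : ℕ) = p * c + (j : ℕ) := by omega
        have h3 := congrArg (· % p) h2
        simp only [Nat.mul_add_mod, Nat.mod_eq_of_lt j₀.2, Nat.mod_eq_of_lt j.2] at h3
        exact h3.symm
      · rfl
    · intro h
      exact absurd (Finset.mem_univ _) h
  rw [isPB_iff] at h ⊢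
  constructor
  · intro c hc
    funext ⟨i, j⟩
    ext m
    have h1 := key c m j
    rw [hc, Polynomial.coeff_zero] at h1
    have h2 := h.1 (fun i => (c (i, j)).coeff m) h1.symm
    exact congrFun h2 i
  · intro b
    choose c hc using h.2
    refine ⟨fun i => ∑ m ∈ Finset.range (b.natDegree + 1),
      Polynomial.monomial m (c (b.coeff (p * m + i.2)) i.1), ?_⟩
    ext n
    have hn : n = p * (n / p) + ((⟨n % p, Nat.mod_lt _ hp⟩ : Fin p) : ℕ) := (Nat.div_add_mod n p).symm
    rw [hn, key]
    have h1 : ∀ i, (∑ m ∈ Finset.range (b.natDegree + 1), Polynomial.monomial m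
        (c (b.coeff (p * m + (⟨n % p, Nat.mod_lt _ hp⟩ : Fin p))) i)).coeff (n / p) =
        if n / p < b.natDegree + 1 then
          c (b.coeff (p * (n / p) + (⟨n % p, Nat.mod_lt _ hp⟩ : Fin p))) i else 0 := by
      intro i
      rw [Polynomial.finsetSum_coeff]
      simp only [Polynomial.coeff_monomial, Finset.sum_ite_eq', Finset.mem_range]
    simp only [h1]
    split_ifs with hlt
    · exact hc _
    · rw [Polynomial.coeff_eq_zero_of_natDegree_lt]
      · simp [zero_pow (Fact.out : p.Prime).ne_zero]
      · have h3 : n / p ≤ n := Nat.div_le_self n p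
        rw [← hn]
        omega

/-- Fraction fields. -/
theorem IsPB.fractionField {R : Type u} [CommRing R] [IsDomain R] [CharP R p] (K : Type v) [Field K]
    [CharP K p] [Algebra R K] [IsFractionRing R K] {ι : Type w} [Fintype ι] {g : ι → R}
    (h : IsPB p g) : IsPB p (fun i => algebraMap R K (g i)) := by
  rw [isPB_iff] at h ⊢
  constructor
  · intro c hc
    obtain ⟨s, hs⟩ := IsLocalization.exist_integer_multiples_of_finite (nonZeroDivisors R) c
    choose a ha using hs
    have hs0 : algebraMap R K (s : R) ≠ 0 := IsFractionRing.to_map_ne_zero_of_mem_nonZeroDivisors s.2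
    have h1 : ∑ i, a i ^ p * g i = 0 := by
      apply IsFractionRing.injective R K
      rw [map_sum, map_zero, ← mul_zero (algebraMap R K (s : R) ^ p), ← hc, Finset.mul_sum]
      refine Finset.sum_congr rfl fun i _ => ?_
      rw [map_mul, map_pow, ha, Algebra.smul_def, mul_pow, mul_assoc]
    have h2 := h.1 a h1
    funext i
    have h3 := ha i
    rw [h2, Pi.zero_apply, map_zero, Algebra.smul_def] at h3
    exact (mul_eq_zero.1 h3.symm).resolve_left hs0
  · intro b
    obtain ⟨a, s, rfl⟩ := IsLocalization.exists_mk'_eq (nonZeroDivisors R) b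
    obtain ⟨c, hc⟩ := h.2 (a * s ^ (p - 1))
    have hs0 : algebraMap R K (s : R) ≠ 0 := IsFractionRing.to_map_ne_zero_of_mem_nonZeroDivisors s.2
    refine ⟨fun i => algebraMap R K (c i) / algebraMap R K s, ?_⟩
    rw [IsFractionRing.mk'_eq_div, div_eq_iff hs0]
    have hp : p = (p - 1) + 1 := by
      have := (Fact.out : p.Prime).pos
      omega
    have h3 : algebraMap R K (s : R) ^ (p - 1) ≠ 0 := pow_ne_zero _ hs0
    apply mul_right_cancel₀ h3
    rw [mul_assoc, ← pow_succ', ← hp, Finset.sum_mul, ← map_pow, ← map_mul, hc, map_sum]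
    refine Finset.sum_congr rfl fun i _ => ?_
    simp only [map_mul, map_pow, div_pow]
    field_simp

/-- The degree of a field over its `p`-th powers. -/
theorem finrank_of_isPB {K : Type u} [Field K] [CharP K p] {ι : Type w} [Fintype ι] {g : ι → K}
    (h : IsPB p g) : Module.finrank (frobenius K p).fieldRange K = Fintype.card ι := by
  rw [isPB_iff] at h
  have hli : LinearIndependent (frobenius K p).fieldRange g := by
    rw [Fintype.linearIndependent_iff]
    intro c hc i
    choose d hd using fun i => (c i).2
    have h1 : ∑ i, d i ^ p * g i = 0 := by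
      rw [← hc]
      refine Finset.sum_congr rfl fun i _ => ?_
      rw [Subfield.smul_def, ← hd i, smul_eq_mul, frobenius_def]
    have h2 := congrFun (h.1 d h1) i
    apply Subtype.ext
    rw [← hd i, h2]
    simp
  have hsp : ⊤ ≤ Submodule.span (frobenius K p).fieldRange (Set.range g) := by
    intro b _
    obtain ⟨c, hc⟩ := h.2 b
    rw [hc]
    refine Submodule.sum_mem _ fun i _ => ?_
    exact Submodule.smul_mem _ (⟨frobenius K p (c i), ⟨c i, rfl⟩⟩ : (frobenius K p).fieldRange)
      (Submodule.subset_span ⟨i, rfl⟩)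
  exact Module.finrank_eq_card_basis (Module.Basis.mk hli hsp)

end

/-- Polynomial rings in finitely many variables. -/
theorem exists_isPB_mvPolynomial (p : ℕ) [Fact p.Prime] {R : Type u} [CommRing R] [CharP R p] {m : ℕ}
    {g : Fin m → R} (h : IsPB p g) (d : ℕ) :
    ∃ g' : Fin (m * p ^ d) → MvPolynomial (Fin d) R, IsPB p g' := by
  induction d with
  | zero =>
    have h1 := h.ringEquiv (MvPolynomial.isEmptyRingEquiv R (Fin 0)).symm
    exact ⟨_, h1.reindex (finCongr (by simp))⟩
  | succ d ih =>
    obtain ⟨g', hg'⟩ := ih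
    have h1 := hg'.polynomial
    have h2 := h1.ringEquiv (MvPolynomial.finSuccEquiv R d).symm.toRingEquiv
    exact ⟨_, h2.reindex ((finCongr (by ring)).trans finProdFinEquiv.symm)⟩

/-- The degree of a homomorphism of fields. -/
noncomputable def deg {A : Type u} {B : Type v} [Field A] [Field B] (f : A →+* B) : ℕ :=
  letI := f.toAlgebra
  Module.finrank A B

theorem deg_comp {A : Type u} {B : Type v} {C : Type w} [Field A] [Field B] [Field C] (f : A →+* B)
    (g : B →+* C) : deg (g.comp f) = deg f * deg g := by
  let _ := f.toAlgebra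
  let _ := g.toAlgebra
  let _ := (g.comp f).toAlgebra
  have : IsScalarTower A B C := IsScalarTower.of_algebraMap_eq fun _ => rfl
  exact (Module.finrank_mul_finrank A B C).symm

theorem deg_of_bijective {A : Type u} {B : Type v} [Field A] [Field B] (f : A →+* B)
    (hf : Function.Bijective f) : deg f = 1 := by
  let _ := f.toAlgebra
  have h := (LinearEquiv.ofBijective (Algebra.linearMap A B) hf).finrank_eq
  rw [Module.finrank_self] at h
  exact h.symm

theorem deg_frobenius (p : ℕ) [Fact p.Prime] (K : Type u) [Field K] [CharP K p] :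
    deg (frobenius K p) = Module.finrank (frobenius K p).fieldRange K := by
  have h1 : frobenius K p = ((frobenius K p).fieldRange.subtype).comp
      (frobenius K p).rangeRestrictField := rfl
  have h2 : Function.Bijective (frobenius K p).rangeRestrictField :=
    ⟨RingHom.injective _, (frobenius K p).rangeRestrictField_bijective.2⟩
  have h3 : deg ((frobenius K p).fieldRange.subtype) = Module.finrank (frobenius K p).fieldRange K :=
    rfl
  rw [← h3]
  conv_lhs => rw [h1]
  rw [deg_comp, deg_of_bijective _ h2, one_mul]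

/-- The degree over the `p`-th powers is invariant under finite extensions. -/
theorem finrank_eq_of_finite (p : ℕ) [Fact p.Prime] (L : Type u) (K : Type v) [Field L] [Field K]
    [CharP L p] [CharP K p] [Algebra L K] [Module.Finite L K] :
    Module.finrank (frobenius K p).fieldRange K = Module.finrank (frobenius L p).fieldRange L := by
  rw [← deg_frobenius, ← deg_frobenius]
  have h1 : (frobenius K p).comp (algebraMap L K) = (algebraMap L K).comp (frobenius L p) := by
    ext x
    exact (RingHom.map_frobenius _ _ _).symm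
  have h2 := congrArg deg h1
  rw [deg_comp, deg_comp, mul_comm (deg (frobenius L p))] at h2
  have h3 : deg (algebraMap L K) = Module.finrank L K := by
    have h5 : (algebraMap L K).toAlgebra = ‹Algebra L K› := Algebra.algebra_ext _ _ fun _ => rfl
    unfold deg
    rw [h5]
  have h4 : 0 < deg (algebraMap L K) := by
    rw [h3]
    exact Module.finrank_pos
  exact Nat.eq_of_mul_eq_mul_left h4 h2

end K675.PBasis
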