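import Mathlib.RingTheory.AdicCompletion.Algebra
import Mathlib.Algebra.CharP.Frobenius

/-!
# The action of the adic completion on power-torsion modules

`module hM` : the `AdicCompletion I A`-module structure on an `A`-module `M` all of whose elements
are killed by some power of `I`; `smul_eq` computes it.
-/

set_option autoImplicit false
universe u v

namespace K675.AdicAct

open AdicCompletion

variable {A : Type u} [CommRing A] {I : Ideal A} {M : Type v} [AddCommGroup M] [Module A M]

theorem exists_rep (r : AdicCompletion I A) :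
    ∃ f : ℕ → A, (∀ n, evalₐ I n r = Ideal.Quotient.mk _ (f n)) ∧
      ∀ m n, m ≤ n → f m - f n ∈ I ^ m := by
  obtain ⟨f, rfl⟩ := AdicCompletion.mk_surjective I A r
  refine ⟨f.val, fun n => evalₐ_mk I n f, fun m n hmn => ?_⟩
  have h := f.2 hmn
  rw [SModEq.sub_mem] at h
  simpa using h

variable (hM : ∀ x : M, ∃ n : ℕ, ∀ a ∈ I ^ n, a • x = 0)

/-- The action. -/
noncomputable def act (r : AdicCompletion I A) (x : M) : M :=
  (exists_rep r).choose (hM x).choose • x

theorem act_eq {r : AdicCompletion I A} {x : M} {n : ℕ} (hx : ∀ a ∈ I ^ n, a • x = 0) {a : A}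
    (ha : evalₐ I n r = Ideal.Quotient.mk _ a) : act hM r x = a • x := by
  have h1 := (exists_rep r).choose_spec
  have h2 := (hM x).choose_spec
  rw [act]
  set f := (exists_rep r).choose
  set l := (hM x).choose
  have h3 : a - f n ∈ I ^ n := by
    rw [← Ideal.Quotient.eq, ← ha, h1.1]
  have h4 : a • x = f n • x := by
    rw [← sub_eq_zero, ← sub_smul]
    exact hx _ h3
  rw [h4]
  rcases le_total l n with h | h
  · rw [← sub_eq_zero, ← sub_smul]
    exact h2 _ (h1.2 l n h)
  · rw [← sub_eq_zero, ← sub_smul, ← neg_sub, neg_smul, neg_eq_zero]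
    exact hx _ (h1.2 n l h)

/-- The module structure over the completion on a power-torsion module. -/
@[reducible] noncomputable def module : Module (AdicCompletion I A) M where
  smul r x := act hM r x
  one_smul x := by
    obtain ⟨n, hn⟩ := hM x
    exact (act_eq hM hn (a := 1) (by rw [map_one, map_one])).trans (one_smul _ _)
  mul_smul r s x := by
    obtain ⟨n, hn⟩ := hM x
    obtain ⟨a, ha⟩ := Ideal.Quotient.mk_surjective (evalₐ I n r)
    obtain ⟨b, hb⟩ := Ideal.Quotient.mk_surjective (evalₐ I n s)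
    change act hM (r * s) x = act hM r (act hM s x)
    rw [act_eq hM hn hb.symm, act_eq hM (n := n) (fun c hc => by rw [smul_comm, hn c hc, smul_zero])
      ha.symm, smul_smul]
    exact act_eq hM hn (by rw [map_mul, map_mul, ha, hb])
  smul_zero r := by
    change act hM r 0 = 0
    rw [act, smul_zero]
  smul_add r x y := by
    obtain ⟨n, hn⟩ := hM x
    obtain ⟨m, hm⟩ := hM y
    have hn' : ∀ a ∈ I ^ (n + m), a • x = 0 := fun a ha =>
      hn a (Ideal.pow_le_pow_right (Nat.le_add_right _ _) ha)
    have hm' : ∀ a ∈ I ^ (n + m), a • y = 0 := fun a ha =>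
      hm a (Ideal.pow_le_pow_right (Nat.le_add_left _ _) ha)
    obtain ⟨a, ha⟩ := Ideal.Quotient.mk_surjective (evalₐ I (n + m) r)
    change act hM r (x + y) = act hM r x + act hM r y
    rw [act_eq hM hn' ha.symm, act_eq hM hm' ha.symm,
      act_eq hM (fun c hc => by rw [smul_add, hn' c hc, hm' c hc, add_zero]) ha.symm, smul_add]
  add_smul r s x := by
    obtain ⟨n, hn⟩ := hM x
    obtain ⟨a, ha⟩ := Ideal.Quotient.mk_surjective (evalₐ I n r)
    obtain ⟨b, hb⟩ := Ideal.Quotient.mk_surjective (evalₐ I n s)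
    change act hM (r + s) x = act hM r x + act hM s x
    rw [act_eq hM hn hb.symm, act_eq hM hn ha.symm, ← add_smul]
    exact act_eq hM hn (by rw [map_add, map_add, ha, hb])
  zero_smul x := by
    obtain ⟨n, hn⟩ := hM x
    exact (act_eq hM hn (a := 0) (by rw [map_zero, map_zero])).trans (zero_smul _ _)

theorem smul_eq {r : AdicCompletion I A} {x : M} {n : ℕ} (hx : ∀ a ∈ I ^ n, a • x = 0) {a : A}
    (ha : evalₐ I n r = Ideal.Quotient.mk _ a) :
    (letI := module hM; r • x) = a • x := act_eq hM hx ha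

theorem algebraMap_smul_eq (a : A) (x : M) :
    (letI := module hM; algebraMap A (AdicCompletion I A) a • x) = a • x := by
  obtain ⟨n, hn⟩ := hM x
  exact act_eq hM hn (AlgHom.commutes _ _)

theorem map_smul_of_semilinear (p : ℕ) [Fact p.Prime] [CharP A p] (φ : M →ₛₗ[frobenius A p] M)
    (r : AdicCompletion I A) (x : M) :
    (letI := module hM; φ (r • x)) = (letI := module hM; r ^ p • φ x) := by
  obtain ⟨n, hn⟩ := hM x
  obtain ⟨m, hm⟩ := hM (φ x)
  have hn' : ∀ a ∈ I ^ (n + m), a • x = 0 := fun a ha =>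
    hn a (Ideal.pow_le_pow_right (Nat.le_add_right _ _) ha)
  have hm' : ∀ a ∈ I ^ (n + m), a • φ x = 0 := fun a ha =>
    hm a (Ideal.pow_le_pow_right (Nat.le_add_left _ _) ha)
  obtain ⟨a, ha⟩ := Ideal.Quotient.mk_surjective (evalₐ I (n + m) r)
  change φ (act hM r x) = act hM (r ^ p) (φ x)
  rw [act_eq hM hn' ha.symm, map_smulₛₗ, frobenius_def]
  exact (act_eq hM hm' (by rw [map_pow, map_pow, ha])).symm

end K675.AdicAct
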