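import Mathlib.RingTheory.Artinian.Module
import Mathlib.RingTheory.Noetherian.Basic
import Mathlib.Algebra.Module.Torsion.Basic
import Mathlib.Order.WellFounded

/-!
# Artinian modules and torsion submodules

* `tb s y M` : the elements of `M` killed by `y i`, `i ∈ s`.
* `isArtinian_of_torsion` : if `M` is `y i`-power torsion for all `i ∈ s` and `tb s y M` is Artinian
  then `M` is Artinian.
* `isNoetherian_tb_pow` : if `tb s y M` is Noetherian, so is `tb s (y ^ j) M`.
* `isArtinian_of_quotient` : if `y i ^ j i` kills `M` for `i ∈ s` and `M ⧸ (y i) M` is Artinian then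
  `M` is Artinian.
* `exists_exponents` : a form of the Artin-Rees lemma for Artinian modules.
-/

set_option autoImplicit false
universe u v w

namespace K675.ArtTors

variable {R : Type u} [CommRing R]

/-- Decreasing double sequences in a well-founded order stabilise uniformly. -/
theorem double_stab {α : Type*} [PartialOrder α] [WellFoundedLT α] (F : ℕ → ℕ → α)
    (h1 : ∀ j, Antitone fun i => F i j) (h2 : ∀ i, Antitone (F i)) :
    ∃ N, ∀ m, N ≤ m → ∀ j, F m j = F N j := by
  classical
  have key : ∀ g : ℕ → α, Antitone g → ∃ N, ∀ m, N ≤ m → g m = g N := by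
    intro g hg
    obtain ⟨-, ⟨N, rfl⟩, hN⟩ := (wellFounded_lt (α := α)).has_min (Set.range g) ⟨_, 0, rfl⟩
    refine ⟨N, fun m hm => ?_⟩
    by_contra hne
    exact hN (g m) ⟨m, rfl⟩ (lt_of_le_of_ne (hg hm) hne)
  obtain ⟨N0, hN0⟩ := key (fun i => F i i) (fun i j hij => (h1 j hij).trans (h2 i hij))
  choose n hn using fun j => key (fun i => F i j) (h1 j)
  have h3 : ∀ i j, N0 ≤ i → N0 ≤ j → F i j = F N0 N0 := by
    intro i j hi hj
    refine le_antisymm ((h1 j hi).trans (h2 N0 hj)) ?_
    rw [← hN0 (max i j) (hi.trans (le_max_left _ _))]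
    exact (h1 _ (le_max_left i j)).trans (h2 i (le_max_right i j))
  refine ⟨max N0 ((Finset.range N0).sup n), fun m hm j => ?_⟩
  by_cases hj : N0 ≤ j
  · rw [h3 m j ((le_max_left _ _).trans hm) hj, h3 _ j (le_max_left _ _) hj]
  · have h4 : n j ≤ (Finset.range N0).sup n :=
      Finset.le_sup (f := n) (Finset.mem_range.2 (not_le.1 hj))
    rw [hn j m (h4.trans ((le_max_right _ _).trans hm)),
      hn j _ (h4.trans (le_max_right _ _))]

section one

variable {M : Type v} [AddCommGroup M] [Module R M]

/-- the elements killed by `y`. -/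
def kr (y : R) (M : Type v) [AddCommGroup M] [Module R M] : Submodule R M :=
  LinearMap.ker (LinearMap.lsmul R M y)

theorem mem_kr {y : R} {x : M} : x ∈ kr y M ↔ y • x = 0 := Iff.rfl

/-- `y ^ j • (W ∩ M[y ^ (j + 1)])`, as a submodule of `M[y]`. -/
def lead (y : R) (W : Submodule R M) (j : ℕ) : Submodule R (kr y M) where
  carrier := {z | ∃ x ∈ W, y ^ (j + 1) • x = 0 ∧ y ^ j • x = z}
  add_mem' := by
    rintro a b ⟨x, hx, hx', hxa⟩ ⟨x', h1, h2, h3⟩
    exact ⟨x + x', add_mem hx h1, by rw [smul_add, hx', h2, add_zero],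
      by rw [smul_add, hxa, h3]; rfl⟩
  zero_mem' := ⟨0, zero_mem _, smul_zero _, smul_zero _⟩
  smul_mem' := by
    rintro c a ⟨x, hx, hx', hxa⟩
    exact ⟨c • x, W.smul_mem _ hx, by rw [smul_comm, hx', smul_zero],
      by rw [smul_comm, hxa]; rfl⟩

theorem mem_lead {y : R} {W : Submodule R M} {j : ℕ} {z : kr y M} :
    z ∈ lead y W j ↔ ∃ x ∈ W, y ^ (j + 1) • x = 0 ∧ y ^ j • x = z := Iff.rfl

theorem lead_mono (y : R) {W W' : Submodule R M} (h : W ≤ W') (j : ℕ) :
    lead y W j ≤ lead y W' j := by
  rintro z ⟨x, hx, hx'⟩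
  exact ⟨x, h hx, hx'⟩

theorem lead_antitone (y : R) (W : Submodule R M) : Antitone (lead y W) := by
  refine antitone_nat_of_succ_le fun j => ?_
  rintro z ⟨x, hx, hx', hxz⟩
  refine ⟨y • x, W.smul_mem _ hx, ?_, ?_⟩
  · rw [smul_smul, ← pow_succ, hx']
  · rw [smul_smul, ← pow_succ, hxz]

theorem le_of_lead_le (y : R) {W W' : Submodule R M} (hle : W' ≤ W)
    (h : ∀ j, lead y W j ≤ lead y W' j) :
    ∀ j, ∀ x ∈ W, y ^ j • x = 0 → x ∈ W' := by
  intro j
  induction j with
  | zero =>
    intro x _ hx
    rw [pow_zero, one_smul] at hx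
    rw [hx]; exact zero_mem _
  | succ j ih =>
    intro x hxW hx
    have hz : y • (y ^ j • x) = 0 := by rw [smul_smul, ← pow_succ', hx]
    obtain ⟨x', h1, h2, h3⟩ := h j (show (⟨y ^ j • x, hz⟩ : kr y M) ∈ lead y W j from
      ⟨x, hxW, hx, rfl⟩)
    have h4 := ih (x - x') (sub_mem hxW (hle h1)) (by rw [smul_sub, h3, sub_self])
    have h5 : x = (x - x') + x' := by abel
    rw [h5]
    exact add_mem h4 h1

theorem isArtinian_of_torsion_one (y : R) (htors : ∀ x : M, ∃ j : ℕ, y ^ j • x = 0)
    (h : IsArtinian R (kr y M)) : IsArtinian R M := by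
  rw [← monotone_stabilizes_iff_artinian]
  intro f
  obtain ⟨N, hN⟩ := double_stab (fun i j => lead y (M := M) (OrderDual.ofDual (f i)) j)
    (fun j a b hab => lead_mono y (f.monotone hab) j) (fun i => lead_antitone y _)
  refine ⟨N, fun m hm => ?_⟩
  have h1 : OrderDual.ofDual (f m) ≤ OrderDual.ofDual (f N) := f.monotone hm
  refine le_antisymm h1 ?_
  intro x hx
  obtain ⟨j, hj⟩ := htors x
  exact le_of_lead_le y h1 (fun j => (hN m hm j).ge) j x hx hj

theorem isNoetherian_kr_pow (y : R) (h : IsNoetherian R (kr y M)) (j : ℕ) :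
    IsNoetherian R (kr (y ^ j) M) := by
  induction j with
  | zero =>
    have : kr (y ^ 0) M = ⊥ := by
      rw [eq_bot_iff]
      intro x hx
      rw [mem_kr, pow_zero, one_smul] at hx
      exact hx
    rw [this]
    infer_instance
  | succ j ih =>
    -- `0 → M[y] → M[y^{j+1}] → M[y^j]`
    let f : kr y M →ₗ[R] kr (y ^ (j + 1)) M := Submodule.inclusion (fun x hx => by
      rw [mem_kr] at hx ⊢
      rw [pow_succ, mul_smul, hx, smul_zero])
    let g : kr (y ^ (j + 1)) M →ₗ[R] kr (y ^ j) M :=
      ((LinearMap.lsmul R M y).comp (kr (y ^ (j + 1)) M).subtype).codRestrict _ (fun x => by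
        have := x.2
        rw [mem_kr] at this ⊢
        rw [LinearMap.comp_apply, LinearMap.lsmul_apply, smul_smul, ← pow_succ]
        exact this)
    refine isNoetherian_of_range_eq_ker f g ?_
    ext x
    constructor
    · rintro ⟨z, rfl⟩
      exact Subtype.ext z.2
    · intro hx
      exact ⟨⟨x, congrArg Subtype.val hx⟩, rfl⟩

/-- The principal case of the dual Artin-Rees lemma. -/
theorem exists_exponent [IsArtinian R M] (K : Submodule R M) (y : R) :
    ∃ c : ℕ, ∀ (j : ℕ) (x : M), y ^ j • x ∈ K → ∃ κ ∈ K, y ^ (j + c) • (x - κ) = 0 := by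
  obtain ⟨c, hc⟩ := IsArtinian.monotone_stabilizes (R := R) (M := M)
    ⟨fun j => OrderDual.toDual (K.map (LinearMap.lsmul R M (y ^ j))), by
      intro a b hab
      change K.map (LinearMap.lsmul R M (y ^ b)) ≤ K.map (LinearMap.lsmul R M (y ^ a))
      rintro _ ⟨x, hx, rfl⟩
      refine ⟨y ^ (b - a) • x, K.smul_mem _ hx, ?_⟩
      rw [LinearMap.lsmul_apply, LinearMap.lsmul_apply, smul_smul, ← pow_add,
        Nat.add_sub_cancel' hab]⟩
  refine ⟨c, fun j x hx => ?_⟩
  have h1 : K.map (LinearMap.lsmul R M (y ^ c)) = K.map (LinearMap.lsmul R M (y ^ (j + c))) :=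
    hc (j + c) (Nat.le_add_left _ _)
  have h2 : y ^ (j + c) • x ∈ K.map (LinearMap.lsmul R M (y ^ c)) :=
    ⟨y ^ j • x, hx, by rw [LinearMap.lsmul_apply, smul_smul, ← pow_add, add_comm c j]⟩
  rw [h1] at h2
  obtain ⟨κ, hκ, h3⟩ := h2
  refine ⟨κ, hκ, ?_⟩
  rw [LinearMap.lsmul_apply] at h3
  rw [smul_sub, h3, sub_self]

end one

section multi

variable {ι : Type w}

/-- The elements killed by all `y i`, `i ∈ s`. -/
def tb (s : Finset ι) (y : ι → R) (M : Type v) [AddCommGroup M] [Module R M] : Submodule R M where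
  carrier := {x | ∀ i ∈ s, y i • x = 0}
  add_mem' := fun ha hb i hi => by rw [smul_add, ha i hi, hb i hi, add_zero]
  zero_mem' := fun i _ => smul_zero _
  smul_mem' := fun c x hx i hi => by rw [smul_comm, hx i hi, smul_zero]

theorem mem_tb {s : Finset ι} {y : ι → R} {M : Type v} [AddCommGroup M] [Module R M] {x : M} :
    x ∈ tb s y M ↔ ∀ i ∈ s, y i • x = 0 := Iff.rfl

theorem isArtinian_of_torsion [DecidableEq ι] (s : Finset ι) (y : ι → R) :
    ∀ (M : Type v) [AddCommGroup M] [Module R M],
    (∀ i ∈ s, ∀ x : M, ∃ j : ℕ, y i ^ j • x = 0) → IsArtinian R (tb s y M) → IsArtinian R M := by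
  induction s using Finset.induction_on with
  | empty =>
    intro M _ _ _ h
    refine isArtinian_of_injective
      (LinearMap.codRestrict (tb ∅ y M) LinearMap.id
        (fun x => by rw [mem_tb]; intro i hi; simp at hi)) ?_
    intro a b hab
    exact congrArg Subtype.val hab
  | insert a s ha ih =>
    intro M _ _ htors h
    apply isArtinian_of_torsion_one (y a) (htors a (Finset.mem_insert_self _ _))
    apply ih (kr (y a) M)
    · intro i hi x
      obtain ⟨j, hj⟩ := htors i (Finset.mem_insert_of_mem hi) x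
      exact ⟨j, Subtype.ext hj⟩
    · let f : tb s y (kr (y a) M) →ₗ[R] tb (insert a s) y M :=
        ((kr (y a) M).subtype.comp (tb s y (kr (y a) M)).subtype).codRestrict _ (fun x => by
          rw [mem_tb]
          intro i hi
          rcases Finset.mem_insert.1 hi with rfl | hi
          · exact x.1.2
          · exact congrArg Subtype.val (x.2 i hi))
      refine isArtinian_of_injective f ?_
      intro x x' hxx
      exact Subtype.ext (Subtype.ext (congrArg (fun z : tb (insert a s) y M => (z : M)) hxx))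

theorem isNoetherian_tb_pow [DecidableEq ι] (s : Finset ι) (y : ι → R) (j : ι → ℕ) :
    ∀ (M : Type v) [AddCommGroup M] [Module R M],
    IsNoetherian R (tb s y M) → IsNoetherian R (tb s (fun i => y i ^ j i) M) := by
  induction s using Finset.induction_on with
  | empty =>
    intro M _ _ h
    refine isNoetherian_of_injective
      (Submodule.inclusion (p := tb ∅ (fun i => y i ^ j i) M) (p' := tb ∅ y M)
        (fun x _ => by rw [mem_tb]; intro i hi; simp at hi)) (Submodule.inclusion_injective _)
  | insert a s ha ih =>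
    intro M _ _ h
    have h1 : IsNoetherian R (tb s y (kr (y a) M)) := by
      let f : tb s y (kr (y a) M) →ₗ[R] tb (insert a s) y M :=
        ((kr (y a) M).subtype.comp (tb s y (kr (y a) M)).subtype).codRestrict _ (fun x => by
          rw [mem_tb]
          intro i hi
          rcases Finset.mem_insert.1 hi with rfl | hi
          · exact x.1.2
          · exact congrArg Subtype.val (x.2 i hi))
      refine isNoetherian_of_injective f ?_
      intro x x' hxx
      exact Subtype.ext (Subtype.ext (congrArg (fun z : tb (insert a s) y M => (z : M)) hxx))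
    have h2 := ih (kr (y a) M) h1
    have h3 : IsNoetherian R (kr (y a) (tb s (fun i => y i ^ j i) M)) := by
      let f : kr (y a) (tb s (fun i => y i ^ j i) M) →ₗ[R] tb s (fun i => y i ^ j i) (kr (y a) M) :=
        (((tb s (fun i => y i ^ j i) M).subtype.comp
          (kr (y a) (tb s (fun i => y i ^ j i) M)).subtype).codRestrict (kr (y a) M)
            (fun x => congrArg Subtype.val x.2)).codRestrict _ (fun x => by
              rw [mem_tb]
              intro i hi
              exact Subtype.ext (x.1.2 i hi))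
      refine isNoetherian_of_injective f ?_
      intro x x' hxx
      exact Subtype.ext (Subtype.ext (congrArg (fun z => ((z.1 : kr (y a) M) : M)) hxx))
    have h4 := isNoetherian_kr_pow (y a) h3 (j a)
    let f : tb (insert a s) (fun i => y i ^ j i) M →ₗ[R]
        kr (y a ^ j a) (tb s (fun i => y i ^ j i) M) :=
      ((tb (insert a s) (fun i => y i ^ j i) M).subtype.codRestrict
        (tb s (fun i => y i ^ j i) M) (fun x i hi => x.2 i (Finset.mem_insert_of_mem hi))).codRestrict
          _ (fun x => Subtype.ext (x.2 a (Finset.mem_insert_self _ _)))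
    refine isNoetherian_of_injective f ?_
    intro x x' hxx
    exact Subtype.ext (congrArg (fun z => ((z.1 : tb s (fun i => y i ^ j i) M) : M)) hxx)

/-- The Artin-Rees lemma for Artinian modules: for a submodule `K` of an Artinian module there are
exponents `j i` such that every `x` with `y i ^ j i • x ∈ K` for all `i` is congruent modulo `K` to
an element killed by `y i ^ (q * j i)`. -/
theorem exists_exponents {M : Type v} [AddCommGroup M] [Module R M] [IsArtinian R M]
    [DecidableEq ι] (K : Submodule R M) (y : ι → R) (q : ℕ) (hq : 2 ≤ q) (s : Finset ι) :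
    ∃ j : ι → ℕ, (∀ i, 1 ≤ j i) ∧ ∀ x : M, (∀ i ∈ s, y i ^ j i • x ∈ K) →
      ∃ κ ∈ K, ∀ i ∈ s, y i ^ (q * j i) • (x - κ) = 0 := by
  induction s using Finset.induction_on with
  | empty =>
    exact ⟨fun _ => 1, fun _ => le_rfl, fun x _ => ⟨0, zero_mem _, fun i hi => by simp at hi⟩⟩
  | insert a s ha ih =>
    obtain ⟨j, hj1, hj⟩ := ih
    let P : Submodule R M := tb s (fun i => y i ^ (q * j i)) M
    obtain ⟨c, hc⟩ := exists_exponent (M := P) (K.comap P.subtype) (y a)
    refine ⟨Function.update j a (c + 1), fun i => ?_, fun x hx => ?_⟩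
    · by_cases hi : i = a
      · subst hi
        rw [Function.update_self]
        exact Nat.le_add_left _ _
      · rw [Function.update_of_ne hi]
        exact hj1 i
    have hne : ∀ i ∈ s, Function.update j a (c + 1) i = j i := fun i hi =>
      Function.update_of_ne (by rintro rfl; exact ha hi) _ _
    obtain ⟨κ, hκ, hκ'⟩ := hj x (fun i hi => by
      have := hx i (Finset.mem_insert_of_mem hi)
      rwa [hne i hi] at this)
    have hP : x - κ ∈ P := hκ'
    have hxa := hx a (Finset.mem_insert_self _ _)
    rw [Function.update_self] at hxa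
    obtain ⟨κ', h1, h2⟩ := hc (c + 1) ⟨x - κ, hP⟩ (by
      change y a ^ (c + 1) • (x - κ) ∈ K
      rw [smul_sub]
      exact sub_mem hxa (K.smul_mem _ hκ))
    have h2' : y a ^ (c + 1 + c) • (x - κ - κ'.1) = 0 := congrArg Subtype.val h2
    refine ⟨κ + κ'.1, add_mem hκ h1, fun i hi => ?_⟩
    rw [← sub_sub]
    rcases Finset.mem_insert.1 hi with rfl | hi'
    · rw [Function.update_self]
      have e : q * (c + 1) = ((q - 2) * (c + 1) + 1) + (c + 1 + c) := by
        obtain ⟨r, rfl⟩ : ∃ r, q = r + 2 := ⟨q - 2, by omega⟩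
        rw [Nat.add_sub_cancel]; ring
      rw [e, pow_add, mul_smul, h2', smul_zero]
    · rw [hne i hi']
      exact (sub_mem hP κ'.2 : x - κ - κ'.1 ∈ P) i hi'

theorem eq_zero_of_torsion [DecidableEq ι] (s : Finset ι) (y : ι → R) :
    ∀ (M : Type v) [AddCommGroup M] [Module R M],
    (∀ i ∈ s, ∀ x : M, ∃ j : ℕ, y i ^ j • x = 0) →
    (∀ x : M, (∀ i ∈ s, y i • x = 0) → x = 0) → ∀ x : M, x = 0 := by
  induction s using Finset.induction_on with
  | empty => exact fun M _ _ _ h x => h x fun i hi => by simp at hi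
  | insert a s ha ih =>
    intro M _ _ htors h
    have h1 := ih (kr (y a) M) (fun i hi x => by
      obtain ⟨j, hj⟩ := htors i (Finset.mem_insert_of_mem hi) x
      exact ⟨j, Subtype.ext hj⟩) (fun x hx => by
        apply Subtype.ext
        apply h
        intro i hi
        rcases Finset.mem_insert.1 hi with rfl | hi
        · exact x.2
        · exact congrArg Subtype.val (hx i hi))
    have h2 : ∀ x : M, y a • x = 0 → x = 0 := fun x hx => congrArg Subtype.val (h1 ⟨x, hx⟩)
    intro x
    obtain ⟨j, hj⟩ := htors a (Finset.mem_insert_self _ _) x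
    induction j with
    | zero => rwa [pow_zero, one_smul] at hj
    | succ j ihj =>
      apply ihj
      apply h2
      rw [smul_smul, ← pow_succ', hj]

end multi

end K675.ArtTors
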