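import Groth.Agent.FrobAlg.K675.PBasis
import Mathlib.LinearAlgebra.Matrix.Determinant.Basic
import Mathlib.RingTheory.Derivation.Basic

/-!
# A determinant of Cartier type

If the monomials `t^e`, `0 ≤ e_i < p`, form a basis of the domain `A` over itself through Frobenius
and `d_j` are derivations with `d_j t_i = δ_ij`, the determinant of
`δ_ij t_i^{p-1} + d_j f_i` is nonzero for all `f_i ∈ A`.
-/

set_option autoImplicit false
universe u v w

namespace K675.CartierDet

open K675.PBasis

section

variable {p : ℕ} [Fact p.Prime] {A : Type u} [CommRing A] [CharP A p] {n : ℕ} {t : Fin n → A}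

/-- The inverse of the basis bijection, as an additive equivalence. -/
noncomputable def coeffs (h : IsPB p (fun e : Fin n → Fin p => ∏ i, t i ^ (e i : ℕ))) :
    A ≃+ ((Fin n → Fin p) → A) :=
  (AddEquiv.mk' (Equiv.ofBijective _ h) (by
    intro c d
    change ∑ e, (c + d) e ^ p * _ = ∑ e, c e ^ p * _ + ∑ e, d e ^ p * _
    rw [← Finset.sum_add_distrib]
    refine Finset.sum_congr rfl fun e _ => ?_
    rw [Pi.add_apply, add_pow_char, add_mul])).symm

theorem sum_coeffs (h : IsPB p (fun e : Fin n → Fin p => ∏ i, t i ^ (e i : ℕ))) (f : A) :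
    f = ∑ e, (coeffs h f e) ^ p * ∏ i, t i ^ (e i : ℕ) :=
  ((Equiv.ofBijective _ h).apply_symm_apply f).symm

theorem coeffs_sum (h : IsPB p (fun e : Fin n → Fin p => ∏ i, t i ^ (e i : ℕ)))
    (c : (Fin n → Fin p) → A) : coeffs h (∑ e, (c e) ^ p * ∏ i, t i ^ (e i : ℕ)) = c :=
  (Equiv.ofBijective _ h).symm_apply_apply c

/-- The coefficient at the exponent `0`. -/
noncomputable def mu (h : IsPB p (fun e : Fin n → Fin p => ∏ i, t i ^ (e i : ℕ))) : A →+ A :=
  (Pi.evalAddMonoidHom (fun _ : Fin n → Fin p => A)
    (fun _ => ⟨0, (Fact.out : p.Prime).pos⟩)).comp (coeffs h : A →+ _)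

theorem mu_apply (h : IsPB p (fun e : Fin n → Fin p => ∏ i, t i ^ (e i : ℕ))) (f : A) :
    mu h f = coeffs h f (fun _ => ⟨0, (Fact.out : p.Prime).pos⟩) := rfl

open Classical in
theorem mu_monomial (h : IsPB p (fun e : Fin n → Fin p => ∏ i, t i ^ (e i : ℕ))) (a : A)
    (v : Fin n → ℕ) :
    mu h (a ^ p * ∏ i, t i ^ v i) = if ∀ i, p ∣ v i then a * ∏ i, t i ^ (v i / p) else 0 := by
  have hp : 0 < p := (Fact.out : p.Prime).pos
  let e₀ : Fin n → Fin p := fun i => ⟨v i % p, Nat.mod_lt _ hp⟩
  have h1 : a ^ p * ∏ i, t i ^ v i =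
      ∑ e, ((Pi.single e₀ (a * ∏ i, t i ^ (v i / p)) : (Fin n → Fin p) → A) e) ^ p *
        ∏ i, t i ^ (e i : ℕ) := by
    rw [Finset.sum_eq_single e₀]
    · rw [Pi.single_eq_same, mul_pow, mul_assoc, ← Finset.prod_pow, ← Finset.prod_mul_distrib]
      congr 1
      refine Finset.prod_congr rfl fun i _ => ?_
      rw [← pow_mul, ← pow_add]
      congr 1
      exact (Nat.div_add_mod' (v i) p).symm
    · intro e _ he
      rw [Pi.single_eq_of_ne he, zero_pow hp.ne', zero_mul]
    · intro h
      exact absurd (Finset.mem_univ _) h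
  rw [mu_apply, h1, coeffs_sum]
  split_ifs with hdvd
  · have h2 : (fun _ => ⟨0, (Fact.out : p.Prime).pos⟩ : Fin n → Fin p) = e₀ := by
      funext i
      ext
      exact (Nat.mod_eq_zero_of_dvd (hdvd i)).symm
    rw [h2, Pi.single_eq_same]
  · rw [Pi.single_eq_of_ne]
    intro h2
    apply hdvd
    intro i
    have h3 := congrArg Fin.val (congrFun h2 i)
    exact Nat.dvd_of_mod_eq_zero h3.symm

end

section deriv

variable {p : ℕ} [Fact p.Prime] {R : Type v} [CommRing R] {A : Type u} [CommRing A] [Algebra R A]
  {n : ℕ} {t : Fin n → A}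

omit [Fact p.Prime] in
theorem mul_deriv_prod (d : Derivation R A A) (j : Fin n)
    (hd : ∀ i, d (t i) = if i = j then 1 else 0) (e : Fin n → ℕ) (s : Finset (Fin n)) :
    t j * d (∏ i ∈ s, t i ^ e i) = if j ∈ s then (e j : A) * ∏ i ∈ s, t i ^ e i else 0 := by
  classical
  induction s using Finset.induction_on with
  | empty => simp
  | insert a s ha ih =>
    rw [Finset.prod_insert ha, Derivation.leibniz, smul_eq_mul, smul_eq_mul, mul_add,
      Derivation.leibniz_pow, hd]
    have h1 : t j * (t a ^ e a * d (∏ i ∈ s, t i ^ e i)) =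
        t a ^ e a * (t j * d (∏ i ∈ s, t i ^ e i)) := by ring
    rw [h1, ih]
    by_cases haj : a = j
    · subst haj
      rw [if_neg ha, if_pos rfl, if_pos (Finset.mem_insert_self _ _), smul_eq_mul, mul_one, mul_zero,
        zero_add, nsmul_eq_mul]
      rcases Nat.eq_zero_or_pos (e a) with h0 | h0
      · rw [h0]
        simp
      · have h2 : t a ^ e a = t a * t a ^ (e a - 1) := by
          rw [← pow_succ']
          congr 1
          omega
        rw [h2]
        ring
    · rw [if_neg haj, smul_zero, smul_zero, mul_zero, mul_zero, add_zero]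
      by_cases hjs : j ∈ s
      · rw [if_pos hjs, if_pos (Finset.mem_insert_of_mem hjs)]
        ring
      · rw [if_neg hjs, if_neg, mul_zero]
        simp only [Finset.mem_insert, not_or]
        exact ⟨fun h => haj h.symm, hjs⟩

variable [CharP A p]

omit [Fact p.Prime] in
theorem deriv_pow_p (d : Derivation R A A) (a : A) : d (a ^ p) = 0 := by
  rw [Derivation.leibniz_pow, ← Nat.cast_smul_eq_nsmul A, CharP.cast_eq_zero, zero_smul]

omit [Fact p.Prime] in
theorem mul_deriv_monomial (d : Derivation R A A) (j : Fin n)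
    (hd : ∀ i, d (t i) = if i = j then 1 else 0) (a : A) (e : Fin n → ℕ) :
    t j * d (a ^ p * ∏ i, t i ^ e i) = a ^ p * (∏ i, t i ^ e i) * (e j : A) := by
  rw [Derivation.leibniz, deriv_pow_p, smul_zero, add_zero, smul_eq_mul, mul_left_comm,
    mul_deriv_prod d j hd, if_pos (Finset.mem_univ _)]
  ring

/-- The exponent, the weight vector and the coefficient of the rows in the expansion. -/
def wt (p : ℕ) {n : ℕ} (i : Fin n) : Option (Fin n → Fin p) → Fin n → ℕ
  | none => Pi.single i p
  | some e => fun j => (e j : ℕ)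

def vec (p : ℕ) {n : ℕ} (i : Fin n) : Option (Fin n → Fin p) → Fin n → ℕ
  | none => Pi.single i 1
  | some e => fun j => (e j : ℕ)

def cf {p : ℕ} {n : ℕ} (c : Fin n → (Fin n → Fin p) → A) (i : Fin n) :
    Option (Fin n → Fin p) → A
  | none => 1
  | some e => c i e

open Classical in
/-- **The determinant is nonzero.** -/
theorem det_ne_zero [IsDomain A] (ht : ∀ i, t i ≠ 0)
    (h : IsPB p (fun e : Fin n → Fin p => ∏ i, t i ^ (e i : ℕ)))
    (d : Fin n → Derivation R A A) (hd : ∀ i j, d j (t i) = if i = j then 1 else 0)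
    (f : Fin n → A) :
    (Matrix.of fun i j : Fin n => (if i = j then t i ^ (p - 1) else 0) + d j (f i)).det ≠ 0 := by
  have hp : 0 < p := (Fact.out : p.Prime).pos
  intro hzero
  let c : Fin n → (Fin n → Fin p) → A := fun i => coeffs h (f i)
  have hrow : ∀ i j, t j * ((if i = j then t i ^ (p - 1) else 0) + d j (f i)) =
      ∑ o : Option (Fin n → Fin p), (cf c i o ^ p * ∏ l, t l ^ wt p i o l) * (vec p i o j : A) := by
    intro i j
    rw [Fintype.sum_option, mul_add]
    congr 1
    · change _ = (1 : A) ^ p * (∏ l, t l ^ (Pi.single i p : Fin n → ℕ) l) *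
        (((Pi.single i 1 : Fin n → ℕ) j : ℕ) : A)
      rw [one_pow, one_mul, Finset.prod_eq_single i]
      · rw [Pi.single_eq_same]
        by_cases hij : i = j
        · subst hij
          rw [if_pos rfl, Pi.single_eq_same, Nat.cast_one, mul_one, ← pow_succ']
          congr 1
          omega
        · rw [if_neg hij, Pi.single_eq_of_ne (Ne.symm hij), Nat.cast_zero, mul_zero, mul_zero]
      · intro l _ hl
        rw [Pi.single_eq_of_ne hl, pow_zero]
      · intro h
        exact absurd (Finset.mem_univ _) h
    · conv_lhs => rw [sum_coeffs h (f i), map_sum, Finset.mul_sum]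
      refine Finset.sum_congr rfl fun e _ => ?_
      rw [mul_deriv_monomial (d j) j (fun i => hd i j)]
      rfl
  have hdet : (Matrix.of fun i j : Fin n =>
      t j * ((if i = j then t i ^ (p - 1) else 0) + d j (f i))).det =
      ∑ σ : Fin n → Option (Fin n → Fin p),
        (∏ i, cf c i (σ i)) ^ p * (∏ l, t l ^ (∑ i, wt p i (σ i) l)) *
          (Matrix.of fun i j : Fin n => (vec p i (σ i) j : A)).det := by
    have h1 : (Matrix.of fun i j : Fin n =>
      t j * ((if i = j then t i ^ (p - 1) else 0) + d j (f i))) =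
      (fun i => ∑ o : Option (Fin n → Fin p),
        (fun j => (cf c i o ^ p * ∏ l, t l ^ wt p i o l) * (vec p i o j : A)) :
          Fin n → Fin n → A) := by
      funext i j
      rw [Finset.sum_apply]
      exact hrow i j
    rw [h1]
    change Matrix.detRowAlternating (fun i => ∑ o : Option (Fin n → Fin p),
        (fun j => (cf c i o ^ p * ∏ l, t l ^ wt p i o l) * (vec p i o j : A))) = _
    have h2 := (Matrix.detRowAlternating (n := Fin n) (R := A)).toMultilinearMap.map_sum
      (fun i (o : Option (Fin n → Fin p)) =>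
        (fun j => (cf c i o ^ p * ∏ l, t l ^ wt p i o l) * (vec p i o j : A)))
    refine h2.trans ?_
    refine Finset.sum_congr rfl fun σ _ => ?_
    change (Matrix.of fun i j : Fin n => (cf c i (σ i) ^ p * ∏ l, t l ^ wt p i (σ i) l) *
      (Matrix.of fun i j : Fin n => (vec p i (σ i) j : A)) i j).det = _
    rw [Matrix.det_mul_column, Finset.prod_mul_distrib, Finset.prod_pow, Finset.prod_comm]
    simp only [Finset.prod_pow_eq_pow_sum]
  have hmul : (Matrix.of fun i j : Fin n =>
      t j * ((if i = j then t i ^ (p - 1) else 0) + d j (f i))).det = 0 := by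
    have h1 := Matrix.det_mul_row t
      (Matrix.of fun i j : Fin n => (if i = j then t i ^ (p - 1) else 0) + d j (f i))
    rw [hzero, mul_zero] at h1
    exact h1
  rw [hdet] at hmul
  have hmu := congrArg (mu h) hmul
  rw [map_zero, map_sum, Finset.sum_eq_single (fun _ => none)] at hmu
  · -- the main term
    have h1 : (Matrix.of fun i j : Fin n =>
        (vec p i ((fun _ => none : Fin n → Option (Fin n → Fin p)) i) j : A)) = 1 := by
      ext1 i j
      rw [Matrix.of_apply, Matrix.one_apply]
      change (((Pi.single i 1 : Fin n → ℕ) j : ℕ) : A) = _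
      rw [Pi.single_apply]
      by_cases hij : i = j
      · rw [if_pos hij, if_pos hij.symm, Nat.cast_one]
      · rw [if_neg hij, if_neg (Ne.symm hij), Nat.cast_zero]
    have h2 : ∀ l, ∑ i, wt p i ((fun _ => none : Fin n → Option (Fin n → Fin p)) i) l = p := by
      intro l
      change ∑ i, (Pi.single i p : Fin n → ℕ) l = p
      simp only [Pi.single_apply, Finset.sum_ite_eq, Finset.mem_univ, if_true]
    rw [h1, Matrix.det_one, mul_one, mu_monomial] at hmu
    simp only [h2, dvd_refl, implies_true, if_true, Nat.div_self hp, pow_one] at hmu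
    have h3 : (∏ i : Fin n, cf c i (none : Option (Fin n → Fin p))) = 1 :=
      Finset.prod_eq_one fun i _ => rfl
    rw [h3, one_mul] at hmu
    exact Finset.prod_ne_zero_iff.2 (fun i _ => ht i) hmu
  · -- the other terms vanish
    intro σ _ hσ
    obtain ⟨i₀, hi₀⟩ : ∃ i, σ i ≠ none := by
      by_contra hcon
      push Not at hcon
      exact hσ (funext hcon)
    have hint : ∃ z : ℤ, (Matrix.of fun i j : Fin n => (vec p i (σ i) j : A)).det = (z : A) := by
      refine ⟨(Matrix.of fun i j : Fin n => (vec p i (σ i) j : ℤ)).det, ?_⟩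
      have h1 := (Int.castRingHom A).map_det (Matrix.of fun i j : Fin n => (vec p i (σ i) j : ℤ))
      change _ = (Int.castRingHom A) _
      rw [h1]
      congr 1
      ext1 i j
      simp
    obtain ⟨z, hz⟩ := hint
    rw [hz, mul_comm, ← zsmul_eq_mul, map_zsmul, mu_monomial]
    split_ifs with hdvd
    · have hdet0 : (Matrix.of fun i j : Fin n => (vec p i (σ i) j : A)).det = 0 := by
        have h1 := Matrix.det_updateRow_sum
          (Matrix.of fun i j : Fin n => (vec p i (σ i) j : A)) i₀
          (fun k => if σ k = none then 0 else 1)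
        have h2 : (if σ i₀ = none then (0 : A) else 1) = 1 := if_neg hi₀
        simp only [h2, one_smul] at h1
        rw [← h1]
        apply Matrix.det_eq_zero_of_row_eq_zero i₀
        intro l
        rw [Matrix.updateRow_self, Finset.sum_apply]
        have h3 : ((∑ i, wt p i (σ i) l : ℕ) : A) = 0 := by
          obtain ⟨q, hq⟩ := hdvd l
          rw [hq, Nat.cast_mul, CharP.cast_eq_zero, zero_mul]
        refine Eq.trans ?_ h3
        rw [Nat.cast_sum]
        refine Finset.sum_congr rfl fun k _ => ?_
        rw [Pi.smul_apply, Matrix.of_apply, smul_eq_mul]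
        rcases hk : σ k with _ | e
        · rw [if_pos rfl, zero_mul]
          change _ = (((Pi.single k p : Fin n → ℕ) l : ℕ) : A)
          rw [Pi.single_apply]
          split_ifs
          · rw [CharP.cast_eq_zero]
          · rw [Nat.cast_zero]
        · rw [if_neg (by simp), one_mul]
          rfl
      rw [hz] at hdet0
      rw [zsmul_eq_mul, hdet0, zero_mul]
    · rw [smul_zero]
  · intro h
    exact absurd (Finset.mem_univ _) h

end deriv

end K675.CartierDet
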