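import Groth.Agent.FrobAlg.K675.TruncWitt
import Groth.Agent.Proet.EtaleLiftMap
import Groth.Prelude.Def_W4c1liftfrobW2
import Mathlib.RingTheory.Smooth.Basic
import Mathlib.RingTheory.Etale.Basic
import Mathlib.RingTheory.Smooth.Flat

/-!
# Etale algebras over Frobenius-liftable algebras

* `exists_lift_ringHom` : formally smooth algebras lift ring homs over nilpotent thickenings,
  in unbundled form.
* `powHom` : the `p`-th power map as a ring homomorphism when `p = 0`.
* `res_ker_sq` : `(ker res)² = 0` in `W₂`.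
* `isFLiftable_of_etale`.
-/

set_option autoImplicit false
universe u v

namespace K675.EtaleFLift

/-- Lifting ring homomorphisms out of a formally smooth algebra. -/
theorem exists_lift_ringHom {B W S T : Type*} [CommRing B] [CommRing W] [Algebra B W]
    [Algebra.FormallySmooth B W] [CommRing S] [CommRing T] (s : B →+* S) (g : S →+* T)
    (hg : Function.Surjective g) (hker : IsNilpotent (RingHom.ker g)) (f : W →+* T)
    (hf : f.comp (algebraMap B W) = g.comp s) :
    ∃ F : W →+* S, g.comp F = f ∧ F.comp (algebraMap B W) = s := by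
  let _ : Algebra B S := s.toAlgebra
  let _ : Algebra B T := (g.comp s).toAlgebra
  let g' : S →ₐ[B] T := { g with commutes' := fun _ => rfl }
  let f' : W →ₐ[B] T := { f with commutes' := fun b => RingHom.congr_fun hf b }
  let F : W →ₐ[B] S := Algebra.FormallySmooth.liftOfSurjective f' g' hg hker
  refine ⟨F.toRingHom, ?_, ?_⟩
  · ext w
    exact Algebra.FormallySmooth.liftOfSurjective_apply f' g' hg hker w
  · ext b
    exact F.commutes b

/-- The `p`-th power map as a ring endomorphism when `p = 0`. -/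
def powHom (p : ℕ) [Fact p.Prime] (R : Type u) [CommRing R] (hp : (p : R) = 0) : R →+* R where
  toFun x := x ^ p
  map_one' := one_pow p
  map_mul' x y := mul_pow x y p
  map_zero' := zero_pow (Fact.out : p.Prime).ne_zero
  map_add' x y := by
    obtain ⟨r, hr⟩ := exists_add_pow_prime_eq (Fact.out : p.Prime) x y
    rw [hr, hp]
    ring

theorem powHom_apply (p : ℕ) [Fact p.Prime] (R : Type u) [CommRing R] (hp : (p : R) = 0) (x : R) :
    powHom p R hp x = x ^ p := rfl

/-- The kernel of the residue map of `W₂` has square zero. -/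
theorem res_ker_sq (p : ℕ) [Fact p.Prime] (R : Type u) [CommRing R] (hp : (p : R) = 0) :
    RingHom.ker (FrobAlg.res p R) ^ 2 = ⊥ := by
  rw [eq_bot_iff, sq, Ideal.mul_le]
  intro x hx y hy
  rw [RingHom.mem_ker, FrobAlg.res_apply] at hx hy
  obtain ⟨b, rfl⟩ := K675.TruncWitt.exists_shift_eq (m := 1) y hy
  rw [K675.TruncWitt.mul_shift hp]
  have h0 : TruncatedWittVector.truncate (Nat.le_succ 1) x = 0 := by
    ext i
    have hi : i = ⟨0, one_pos⟩ := Subsingleton.elim _ _
    rw [hi, K675.TruncWitt.coeff_zero_truncate one_pos, hx, TruncatedWittVector.coeff_zero]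
  rw [h0, map_zero, zero_mul, map_zero]
  exact Submodule.zero_mem _

/-- An étale algebra over a Frobenius-liftable algebra is Frobenius-liftable. -/
theorem isFLiftable_of_etale (p : ℕ) [Fact p.Prime] (k : Type u) [CommRing k] [CharP k p]
    (A C : Type v) [CommRing A] [CommRing C] [Algebra k A] [Algebra k C]
    [Algebra A C] [IsScalarTower k A C] [Algebra.Etale A C]
    (hA : FrobAlg.IsFLiftable p k A) : FrobAlg.IsFLiftable p k C := by
  obtain ⟨B, _, ι, π, Φ, hΦ⟩ := hA
  let _ : Algebra B A := π.toAlgebra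
  let _ : Algebra B C := ((algebraMap A C).comp π).toAlgebra
  have : IsScalarTower B A C := IsScalarTower.of_algebraMap_eq fun _ => rfl
  obtain ⟨W, _, _, ρ, hW, hρ, hker⟩ :=
    Groth.Agent.Proet.EtaleLiftMap.exists_etale_lift' (A := B) (R := A) (T := C) hΦ.surj
  have hBC : ∀ b : B, algebraMap B C b = algebraMap A C (π b) := fun _ => rfl
  have hkerπ : RingHom.ker (algebraMap B A) = Ideal.map ι (RingHom.ker (FrobAlg.res p k)) :=
    hΦ.ker_eq
  rw [hkerπ, Ideal.map_map] at hker
  have hnil : IsNilpotent (RingHom.ker (ρ : W →+* C)) := by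
    refine ⟨2, ?_⟩
    have h1 : RingHom.ker (ρ : W →+* C) = RingHom.ker ρ := rfl
    rw [h1, hker, ← Ideal.map_pow, res_ker_sq p k (CharP.cast_eq_zero k p), Ideal.map_bot]
    rfl
  have hpC : (p : C) = 0 := by
    rw [← map_natCast (algebraMap k C) p, CharP.cast_eq_zero, map_zero]
  obtain ⟨F, hF1, hF2⟩ := exists_lift_ringHom ((algebraMap B W).comp Φ) (ρ : W →+* C) hρ hnil
    ((powHom p C hpC).comp (ρ : W →+* C)) (by
      ext b
      change (ρ (algebraMap B W b)) ^ p = ρ (algebraMap B W (Φ b))
      rw [ρ.commutes, ρ.commutes, hBC, hBC, hΦ.red, map_pow])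
  refine ⟨W, _, (algebraMap B W).comp ι, ρ, F, ⟨⟨?_, hρ, hker, ?_⟩, ?_, ?_⟩⟩
  · have : Module.Flat B W := inferInstance
    exact hΦ.flat.comp (RingHom.flat_algebraMap_iff.2 this)
  · ext x
    change ρ (algebraMap B W (ι x)) = _
    rw [ρ.commutes, hBC]
    have := RingHom.congr_fun hΦ.comm x
    change π (ι x) = _ at this
    rw [this]
    change algebraMap A C (algebraMap k A _) = algebraMap k C _
    rw [← IsScalarTower.algebraMap_apply]
  · rw [← RingHom.comp_assoc, hF2, RingHom.comp_assoc, hΦ.semi, RingHom.comp_assoc]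
  · intro w
    exact RingHom.congr_fun hF1 w

end K675.EtaleFLift
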