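import Mathlib.Algebra.CharP.Frobenius
import Mathlib.RingTheory.Finiteness.Basic
import Mathlib.RingTheory.FiniteType
import Mathlib.RingTheory.Localization.Basic
import Mathlib.RingTheory.PowerSeries.Expand
import Mathlib.FieldTheory.Perfect
import Mathlib.Algebra.MvPolynomial.Equiv
import Mathlib.Algebra.CharP.Quotient
import Mathlib.Algebra.CharP.Algebra

/-!
# Rings with finite Frobenius

`finite_iff` : a ring map is finite iff its target is generated by finitely many elements;
`finite_quotient`, `finite_localization`, `finite_polynomial`, `finite_mvPolynomial`,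
`finite_powerSeries` : finiteness of the absolute Frobenius of quotients, localizations,
polynomial rings and of `k⟦t⟧` for `k` perfect.
-/

set_option autoImplicit false
universe u v

namespace K675.FFinite

/-- A ring map is finite iff the target is generated by finitely many elements. -/
theorem finite_iff {A : Type u} {B : Type v} [CommRing A] [CommRing B] (f : A →+* B) :
    f.Finite ↔ ∃ (n : ℕ) (g : Fin n → B), ∀ b : B, ∃ c : Fin n → A, b = ∑ i, f (c i) * g i := by
  classical
  let := f.toAlgebra
  change Module.Finite A B ↔ _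
  constructor
  · intro h
    obtain ⟨n, g, hg⟩ := Module.Finite.exists_fin (R := A) (M := B)
    refine ⟨n, g, fun b => ?_⟩
    have hb : b ∈ Submodule.span A (Set.range g) := by rw [hg]; trivial
    obtain ⟨c, hc⟩ := (Submodule.mem_span_range_iff_exists_fun A).1 hb
    exact ⟨c, by rw [← hc]; rfl⟩
  · rintro ⟨n, g, hg⟩
    refine ⟨⟨Finset.univ.image g, ?_⟩⟩
    rw [eq_top_iff]
    intro b _
    obtain ⟨c, hc⟩ := hg b
    rw [hc]
    refine Submodule.sum_mem _ fun i _ => ?_
    exact Submodule.smul_mem _ _ (Submodule.subset_span (by simp))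

/-- It is enough to give generators indexed by a finite type. -/
theorem finite_of_fintype {A : Type u} {B : Type v} [CommRing A] [CommRing B] (f : A →+* B)
    {ι : Type*} [Fintype ι] (g : ι → B) (h : ∀ b : B, ∃ c : ι → A, b = ∑ i, f (c i) * g i) :
    f.Finite := by
  rw [finite_iff]
  refine ⟨Fintype.card ι, fun i => g ((Fintype.equivFin ι).symm i), fun b => ?_⟩
  obtain ⟨c, hc⟩ := h b
  refine ⟨fun i => c ((Fintype.equivFin ι).symm i), ?_⟩
  rw [hc]
  exact (Equiv.sum_comp (Fintype.equivFin ι).symm (fun i => f (c i) * g i)).symm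

section

variable (p : ℕ) [Fact p.Prime] (A : Type u) [CommRing A] [CharP A p]

/-- Finiteness of Frobenius passes to the target of a surjection. -/
theorem finite_of_surjective (hF : (frobenius A p).Finite) (B : Type v) [CommRing B] [CharP B p]
    (f : A →+* B) (hf : Function.Surjective f) : (frobenius B p).Finite := by
  obtain ⟨n, g, hg⟩ := (finite_iff _).1 hF
  refine (finite_iff _).2 ⟨n, fun i => f (g i), fun b => ?_⟩
  obtain ⟨a, rfl⟩ := hf b
  obtain ⟨c, hc⟩ := hg a
  refine ⟨fun i => f (c i), ?_⟩
  conv_lhs => rw [hc]
  rw [map_sum]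
  refine Finset.sum_congr rfl fun i _ => ?_
  rw [map_mul, RingHom.map_frobenius]

/-- Finiteness of Frobenius passes to localizations. -/
theorem finite_localization (hF : (frobenius A p).Finite) (S : Submonoid A) (B : Type v)
    [CommRing B] [Algebra A B] [IsLocalization S B] [CharP B p] : (frobenius B p).Finite := by
  obtain ⟨n, g, hg⟩ := (finite_iff _).1 hF
  refine (finite_iff _).2 ⟨n, fun i => algebraMap A B (g i), fun b => ?_⟩
  obtain ⟨a, s, rfl⟩ := IsLocalization.exists_mk'_eq S b
  obtain ⟨c, hc⟩ := hg (a * s ^ (p - 1))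
  refine ⟨fun i => IsLocalization.mk' B (c i) s, ?_⟩
  have hp : p = (p - 1) + 1 := by
    have := (Fact.out : p.Prime).pos
    omega
  have hu : IsUnit (algebraMap A B (s : A)) := IsLocalization.map_units B s
  have h1 : (algebraMap A B (s : A)) ^ p * IsLocalization.mk' B a s =
      algebraMap A B (a * s ^ (p - 1)) := by
    conv_lhs => rw [hp]
    rw [pow_succ, mul_assoc, mul_comm (algebraMap A B s) (IsLocalization.mk' B a s),
      IsLocalization.mk'_spec, map_mul, map_pow, mul_comm]
  have h2 : (algebraMap A B (s : A)) ^ p * ∑ i, frobenius B p (IsLocalization.mk' B (c i) s) *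
      algebraMap A B (g i) = algebraMap A B (a * s ^ (p - 1)) := by
    rw [hc, map_sum, Finset.mul_sum]
    refine Finset.sum_congr rfl fun i _ => ?_
    rw [frobenius_def, ← mul_assoc, ← mul_pow, mul_comm (algebraMap A B s) (IsLocalization.mk' B _ s),
      IsLocalization.mk'_spec, map_mul, frobenius_def, map_pow]
  exact (hu.pow p).mul_left_cancel (h1.trans h2.symm)

/-- Finiteness of Frobenius passes to `A[X]`. -/
theorem finite_polynomial (hF : (frobenius A p).Finite) :
    (frobenius (Polynomial A) p).Finite := by
  have hp : 0 < p := (Fact.out : p.Prime).pos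
  obtain ⟨n, g, hg⟩ := (finite_iff _).1 hF
  refine finite_of_fintype _ (fun i : Fin n × Fin p => Polynomial.C (g i.1) * Polynomial.X ^ (i.2 : ℕ))
    fun b => ?_
  induction b using Polynomial.induction_on' with
  | add x y hx hy =>
    obtain ⟨c, hc⟩ := hx
    obtain ⟨d, hd⟩ := hy
    refine ⟨fun i => c i + d i, ?_⟩
    conv_lhs => rw [hc, hd]
    rw [← Finset.sum_add_distrib]
    refine Finset.sum_congr rfl fun i _ => ?_
    rw [map_add]
    ring
  | monomial m a =>
    obtain ⟨c, hc⟩ := hg a
    refine ⟨fun i => if (i.2 : ℕ) = m % p then Polynomial.C (c i.1) * Polynomial.X ^ (m / p) else 0, ?_⟩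
    rw [Fintype.sum_prod_type]
    have h1 : ∀ i : Fin n, (∑ j : Fin p, frobenius (Polynomial A) p
        (if (j : ℕ) = m % p then Polynomial.C (c i) * Polynomial.X ^ (m / p) else 0) *
        (Polynomial.C (g i) * Polynomial.X ^ (j : ℕ))) =
        Polynomial.C (frobenius A p (c i) * g i) * Polynomial.X ^ m := by
      intro i
      rw [Finset.sum_eq_single (⟨m % p, Nat.mod_lt _ hp⟩ : Fin p)]
      · rw [if_pos rfl, frobenius_def, mul_pow, ← pow_mul, ← Polynomial.C_pow, frobenius_def,
          Polynomial.C_mul]
        have : (Polynomial.X : Polynomial A) ^ m =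
            Polynomial.X ^ (m / p * p) * Polynomial.X ^ (m % p) := by
          rw [← pow_add, Nat.div_add_mod']
        rw [this]
        ring
      · intro j _ hj
        rw [if_neg, map_zero, zero_mul]
        intro h
        exact hj (Fin.ext h)
      · intro h
        exact absurd (Finset.mem_univ _) h
    simp only [h1]
    rw [← Finset.sum_mul, ← map_sum, ← hc, Polynomial.C_mul_X_pow_eq_monomial]

end

/-- Finiteness of Frobenius passes to polynomial rings in finitely many variables. -/
theorem finite_mvPolynomial (p : ℕ) [Fact p.Prime] (A : Type u) [CommRing A] [CharP A p]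
    (hF : (frobenius A p).Finite) (n : ℕ) :
    (frobenius (MvPolynomial (Fin n) A) p).Finite := by
  induction n with
  | zero =>
    exact finite_of_surjective p A hF _ (MvPolynomial.isEmptyRingEquiv A (Fin 0)).symm.toRingHom
      (MvPolynomial.isEmptyRingEquiv A (Fin 0)).symm.surjective
  | succ n ih =>
    have h := finite_polynomial p (MvPolynomial (Fin n) A) ih
    exact finite_of_surjective p _ h _ (MvPolynomial.finSuccEquiv A n).symm.toRingEquiv.toRingHom
      (MvPolynomial.finSuccEquiv A n).symm.surjective

/-- `k⟦t⟧` has characteristic `p`. -/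
theorem charP_powerSeries (p : ℕ) (k : Type u) [CommRing k] [CharP k p] :
    CharP (PowerSeries k) p :=
  charP_of_injective_ringHom (PowerSeries.C_injective (R := k)) p

/-- The `p`-th power of a power series over a ring of characteristic `p`. -/
theorem powerSeries_pow_p (p : ℕ) [Fact p.Prime] (k : Type u) [CommRing k] [CharP k p]
    (f : PowerSeries k) : f ^ p = PowerSeries.map (frobenius k p)
      (PowerSeries.expand p (Fact.out : p.Prime).ne_zero f) :=
  (MvPowerSeries.map_frobenius_expand p (Fact.out : p.Prime).ne_zero (f := f)).symm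

/-- The absolute Frobenius of `k⟦t⟧` is finite for `k` perfect. -/
theorem finite_powerSeries (p : ℕ) [Fact p.Prime] (k : Type u) [CommRing k] [CharP k p]
    [PerfectRing k p] [CharP (PowerSeries k) p] : (frobenius (PowerSeries k) p).Finite := by
  have hp : 0 < p := (Fact.out : p.Prime).pos
  refine finite_of_fintype _ (fun j : Fin p => (PowerSeries.X : PowerSeries k) ^ (j : ℕ)) fun b => ?_
  refine ⟨fun j => PowerSeries.mk fun m => (frobeniusEquiv k p).symm
    (PowerSeries.coeff (p * m + j) b), ?_⟩
  ext n
  rw [map_sum, Finset.sum_eq_single (⟨n % p, Nat.mod_lt _ hp⟩ : Fin p)]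
  · have hn : n - n % p = p * (n / p) := by
      have := Nat.div_add_mod n p
      omega
    change _ = PowerSeries.coeff n (_ * PowerSeries.X ^ (n % p))
    rw [frobenius_def, powerSeries_pow_p, PowerSeries.coeff_mul_X_pow', if_pos (Nat.mod_le _ _),
      hn, PowerSeries.coeff_map, PowerSeries.coeff_expand_mul, PowerSeries.coeff_mk]
    change _ = frobeniusEquiv k p ((frobeniusEquiv k p).symm
      (PowerSeries.coeff (p * (n / p) + n % p) b))
    rw [(frobeniusEquiv k p).apply_symm_apply, Nat.div_add_mod]
  · intro j _ hj
    rw [frobenius_def, powerSeries_pow_p, PowerSeries.coeff_mul_X_pow']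
    split_ifs with h
    · rw [PowerSeries.coeff_map, PowerSeries.coeff_expand_of_not_dvd, map_zero]
      rintro ⟨c, hc⟩
      apply hj
      ext
      have h2 : n = p * c + (j : ℕ) := by omega
      change (j : ℕ) = n % p
      rw [h2, Nat.mul_add_mod, Nat.mod_eq_of_lt j.2]
    · rfl
  · intro h
    exact absurd (Finset.mem_univ _) h

end K675.FFinite
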