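import Mathlib.RingTheory.HopkinsLevitzki
import Mathlib.RingTheory.DedekindDomain.Basic
import Mathlib.Algebra.Module.Torsion.Basic
import Mathlib.RingTheory.KrullDimension.Zero
import Mathlib.RingTheory.Ideal.Quotient.Noetherian

/-!
# Fitting's lemma for semilinear endomorphisms

`isArtinian_of_isTorsion` : a finite torsion module over a Noetherian domain of dimension at most
one is Artinian.
`fitting` : Fitting's lemma for a semilinear endomorphism (over a surjective endomorphism of the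
base ring) of an Artinian and Noetherian module.
-/

set_option autoImplicit false
universe u v

namespace K675.Fitting

theorem isArtinianRing_quotient {C : Type v} [CommRing C] [IsNoetherianRing C]
    [Ring.DimensionLEOne C] {x : C} (hx : x ≠ 0) : IsArtinianRing (C ⧸ Ideal.span {x}) := by
  rw [isArtinianRing_iff_krullDimLE_zero, Ring.krullDimLE_zero_iff]
  intro p hp
  have h1 : (p.comap (Ideal.Quotient.mk (Ideal.span {x}))).IsMaximal := by
    apply Ring.DimensionLEOne.maximalOfPrime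
    · intro h
      have : x ∈ p.comap (Ideal.Quotient.mk (Ideal.span {x})) := by
        rw [Ideal.mem_comap, Ideal.Quotient.eq_zero_iff_mem.mpr (Ideal.mem_span_singleton_self x)]
        exact p.zero_mem
      rw [h] at this
      exact hx (by simpa using this)
    · exact Ideal.IsPrime.comap _
  rw [← Ideal.map_comap_of_surjective (Ideal.Quotient.mk (Ideal.span {x}))
    Ideal.Quotient.mk_surjective p]
  refine Ideal.IsMaximal.map_of_surjective_of_ker_le Ideal.Quotient.mk_surjective ?_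
  exact Ideal.ker_le_comap _

/-- A finite torsion module over a domain is killed by a nonzero element. -/
theorem exists_ne_zero_smul_eq_zero {C : Type u} [CommRing C] [IsDomain C] (M : Type v)
    [AddCommGroup M] [Module C M] [Module.Finite C M] (hM : Module.IsTorsion C M) :
    ∃ a : C, a ≠ 0 ∧ ∀ x : M, a • x = 0 := by
  classical
  obtain ⟨s, hs⟩ := (Module.Finite.fg_top : (⊤ : Submodule C M).FG)
  have h : ∀ x : M, ∃ a : C, a ≠ 0 ∧ a • x = 0 := by
    intro x
    obtain ⟨a, ha⟩ := @hM x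
    exact ⟨a, nonZeroDivisors.ne_zero a.2, ha⟩
  choose a ha0 ha using h
  refine ⟨∏ x ∈ s, a x, Finset.prod_ne_zero_iff.2 fun x _ => ha0 x, fun x => ?_⟩
  have hx : x ∈ Submodule.span C (s : Set M) := by rw [hs]; trivial
  induction hx using Submodule.span_induction with
  | mem y hy =>
    rw [← Finset.prod_erase_mul s a hy, mul_smul, ha, smul_zero]
  | zero => rw [smul_zero]
  | add y z _ _ hy hz => rw [smul_add, hy, hz, add_zero]
  | smul c y _ hy => rw [smul_comm, hy, smul_zero]

/-- A finite torsion module over a Noetherian domain of dimension at most one is Artinian. -/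
theorem isArtinian_of_isTorsion {C : Type u} [CommRing C] [IsDomain C] [IsNoetherianRing C]
    [Ring.DimensionLEOne C] (M : Type v)
    [AddCommGroup M] [Module C M] [Module.Finite C M] (hM : Module.IsTorsion C M) :
    IsArtinian C M := by
  obtain ⟨a, ha0, ha⟩ := exists_ne_zero_smul_eq_zero M hM
  have hT : Module.IsTorsionBySet C M (Ideal.span {a} : Ideal C) := by
    rintro x ⟨b, hb⟩
    obtain ⟨c, rfl⟩ := Ideal.mem_span_singleton'.1 hb
    change (c * a) • x = 0
    rw [mul_smul, ha, smul_zero]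
  let := hT.module
  have : IsScalarTower C (C ⧸ Ideal.span {a}) M := hT.isScalarTower
  have : IsArtinianRing (C ⧸ Ideal.span {a}) := isArtinianRing_quotient ha0
  have : Module.Finite (C ⧸ Ideal.span {a}) M := Module.Finite.of_restrictScalars_finite C _ M
  have h2 : IsArtinian (C ⧸ Ideal.span {a}) M := inferInstance
  exact isArtinian_of_surjective_algebraMap (R := C ⧸ Ideal.span {a}) Ideal.Quotient.mk_surjective

section

variable {R : Type u} [CommRing R] {σ : R →+* R} {M : Type v} [AddCommGroup M] [Module R M]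

theorem iterate_map_add (φ : M →ₛₗ[σ] M) (n : ℕ) (x y : M) :
    (⇑φ)^[n] (x + y) = (⇑φ)^[n] x + (⇑φ)^[n] y := by
  induction n generalizing x y with
  | zero => rfl
  | succ n ih => rw [Function.iterate_succ_apply, map_add, ih]; rfl

theorem iterate_map_zero (φ : M →ₛₗ[σ] M) (n : ℕ) : (⇑φ)^[n] 0 = 0 := by
  induction n with
  | zero => rfl
  | succ n ih => rw [Function.iterate_succ_apply, map_zero, ih]

theorem iterate_map_sub (φ : M →ₛₗ[σ] M) (n : ℕ) (x y : M) :
    (⇑φ)^[n] (x - y) = (⇑φ)^[n] x - (⇑φ)^[n] y := by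
  induction n generalizing x y with
  | zero => rfl
  | succ n ih => rw [Function.iterate_succ_apply, map_sub, ih]; rfl

theorem iterate_map_smul (φ : M →ₛₗ[σ] M) (n : ℕ) (a : R) (x : M) :
    (⇑φ)^[n] (a • x) = ((⇑σ)^[n] a) • (⇑φ)^[n] x := by
  induction n generalizing x a with
  | zero => rfl
  | succ n ih => rw [Function.iterate_succ_apply, LinearMap.map_smulₛₗ, ih]; rfl

/-- The kernel of an iterate. -/
def kerIter (φ : M →ₛₗ[σ] M) (n : ℕ) : Submodule R M where
  carrier := {x | (⇑φ)^[n] x = 0}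
  zero_mem' := iterate_map_zero φ n
  add_mem' {x y} hx hy := by
    change (⇑φ)^[n] (x + y) = 0
    change (⇑φ)^[n] x = 0 at hx
    change (⇑φ)^[n] y = 0 at hy
    rw [iterate_map_add, hx, hy, add_zero]
  smul_mem' a x hx := by
    change (⇑φ)^[n] (a • x) = 0
    change (⇑φ)^[n] x = 0 at hx
    rw [iterate_map_smul, hx, smul_zero]

theorem mem_kerIter (φ : M →ₛₗ[σ] M) (n : ℕ) (x : M) : x ∈ kerIter φ n ↔ (⇑φ)^[n] x = 0 := Iff.rfl

/-- The image of an iterate (for surjective `σ`). -/
def rangeIter (hσ : Function.Surjective σ) (φ : M →ₛₗ[σ] M) (n : ℕ) : Submodule R M where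
  carrier := Set.range ((⇑φ)^[n])
  zero_mem' := ⟨0, iterate_map_zero φ n⟩
  add_mem' {x y} hx hy := by
    obtain ⟨x, rfl⟩ := hx
    obtain ⟨y, rfl⟩ := hy
    exact ⟨x + y, iterate_map_add φ n x y⟩
  smul_mem' a x hx := by
    obtain ⟨x, rfl⟩ := hx
    obtain ⟨b, rfl⟩ := hσ.iterate n a
    exact ⟨b • x, iterate_map_smul φ n b x⟩

theorem mem_rangeIter (hσ : Function.Surjective σ) (φ : M →ₛₗ[σ] M) (n : ℕ) (x : M) :
    x ∈ rangeIter hσ φ n ↔ ∃ y, (⇑φ)^[n] y = x := Iff.rfl

theorem kerIter_mono (φ : M →ₛₗ[σ] M) : Monotone (kerIter φ) := by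
  intro m n h x hx
  obtain ⟨k, rfl⟩ := Nat.exists_eq_add_of_le' h
  rw [mem_kerIter] at hx ⊢
  rw [Function.iterate_add_apply, hx, iterate_map_zero]

theorem rangeIter_anti (hσ : Function.Surjective σ) (φ : M →ₛₗ[σ] M) :
    Antitone (rangeIter hσ φ) := by
  intro m n h x hx
  obtain ⟨k, rfl⟩ := Nat.exists_eq_add_of_le h
  obtain ⟨y, rfl⟩ := hx
  exact ⟨(⇑φ)^[k] y, by rw [← Function.iterate_add_apply]⟩

/-- **Fitting's lemma** for semilinear endomorphisms over a surjective ring endomorphism. -/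
theorem fitting (hσ : Function.Surjective σ) [IsNoetherian R M] [IsArtinian R M]
    (φ : M →ₛₗ[σ] M) :
    ∃ Ms Mn : Submodule R M, IsCompl Ms Mn ∧
      Set.MapsTo φ Ms Ms ∧ Set.MapsTo φ Mn Mn ∧ Set.BijOn φ Ms Ms ∧
      ∃ r : ℕ, ∀ x ∈ Mn, (⇑φ)^[r] x = 0 := by
  obtain ⟨n₁, hn₁⟩ := monotone_stabilizes_iff_noetherian.2 ‹IsNoetherian R M›
    ⟨kerIter φ, kerIter_mono φ⟩
  obtain ⟨n₂, hn₂⟩ := IsArtinian.monotone_stabilizes (R := R) (M := M)
    ⟨fun n => OrderDual.toDual (rangeIter hσ φ n), fun m n h => rangeIter_anti hσ φ h⟩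
  let r := n₁ + n₂ + 1
  have hK : ∀ m, r ≤ m → kerIter φ r = kerIter φ m := fun m hm =>
    (hn₁ r (by omega)).symm.trans (hn₁ m (by omega))
  have hI : ∀ m, r ≤ m → rangeIter hσ φ r = rangeIter hσ φ m := fun m hm =>
    (congrArg OrderDual.ofDual (hn₂ r (by omega))).symm.trans
      (congrArg OrderDual.ofDual (hn₂ m (by omega)))
  have hdisj : ∀ x, x ∈ rangeIter hσ φ r → x ∈ kerIter φ r → x = 0 := by
    rintro x ⟨y, rfl⟩ hx
    rw [mem_kerIter, ← Function.iterate_add_apply] at hx
    have : y ∈ kerIter φ (r + r) := hx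
    rw [← hK (r + r) (by omega)] at this
    exact this
  have hms : Set.MapsTo φ (rangeIter hσ φ r) (rangeIter hσ φ r) := by
    rintro x ⟨y, rfl⟩
    exact ⟨φ y, by rw [← Function.iterate_succ_apply, Function.iterate_succ_apply']⟩
  refine ⟨rangeIter hσ φ r, kerIter φ r, ⟨?_, ?_⟩, hms, ?_, ⟨hms, ?_, ?_⟩, r, fun x hx => hx⟩
  · rw [Submodule.disjoint_def]
    exact hdisj
  · rw [codisjoint_iff, eq_top_iff]
    intro x _
    have hx : (⇑φ)^[r] x ∈ rangeIter hσ φ (r + r) := by
      rw [← hI (r + r) (by omega)]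
      exact ⟨x, rfl⟩
    obtain ⟨y, hy⟩ := hx
    rw [Submodule.mem_sup]
    refine ⟨(⇑φ)^[r] y, ⟨y, rfl⟩, x - (⇑φ)^[r] y, ?_, by abel⟩
    rw [mem_kerIter, iterate_map_sub, ← Function.iterate_add_apply, hy, sub_self]
  · intro x hx
    change (⇑φ)^[r] (φ x) = 0
    rw [← Function.iterate_succ_apply, Function.iterate_succ_apply']
    have hx' : (⇑φ)^[r] x = 0 := hx
    rw [hx', map_zero]
  · intro x hx y hy hxy
    have h1 : x - y ∈ rangeIter hσ φ r := sub_mem hx hy
    have h2 : x - y ∈ kerIter φ 1 := by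
      rw [mem_kerIter, Function.iterate_one, map_sub, hxy, sub_self]
    exact sub_eq_zero.1 (hdisj _ h1 (kerIter_mono φ (by omega) h2))
  · intro x hx
    rw [SetLike.mem_coe, hI (r + 1) (by omega)] at hx
    obtain ⟨y, rfl⟩ := hx
    exact ⟨(⇑φ)^[r] y, ⟨y, rfl⟩, (Function.iterate_succ_apply' (⇑φ) r y).symm⟩

end

end K675.Fitting
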