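import Groth.Agent.FrobAlg.K675.ArtTors
import Mathlib.RingTheory.Flat.Basic
import Mathlib.LinearAlgebra.TensorProduct.Pi
import Mathlib.RingTheory.TensorProduct.Finite
import Mathlib.RingTheory.HopkinsLevitzki
import Mathlib.RingTheory.Ideal.Quotient.Noetherian
import Mathlib.RingTheory.RingHom.Flat
import Mathlib.RingTheory.KrullDimension.Basic
import Mathlib.Algebra.CharP.Frobenius

/-!
# The Hartshorne-Speiser-Lyubeznik theorem over a ring with flat Frobenius

`core`: `R` a Noetherian ring of characteristic `p` with flat Frobenius, `y i` finitely many elements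
generating a maximal ideal, `M` an `R`-module which is `y i`-power torsion for every `i` and such
that the submodule killed by all `y i` is Noetherian.  A locally nilpotent Frobenius-semilinear
endomorphism of `M` is nilpotent.
-/

set_option autoImplicit false
set_option linter.unusedSectionVars false
universe u u' v v' w

namespace K675.HSLCore

open TensorProduct K675.ArtTors

section flat

variable {R : Type u} {T : Type u'} [CommRing R] [CommRing T] [Algebra R T] {ι : Type w} [Fintype ι]
  [DecidableEq ι]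

/-- Torsion submodules and flat base change. -/
theorem mem_range_of_flat [Module.Flat R T] {M : Type v} [AddCommGroup M] [Module R M] (a : ι → R)
    (z : T ⊗[R] M) (hz : ∀ i, a i • z = 0) :
    z ∈ LinearMap.range (LinearMap.lTensor T (tb Finset.univ a M).subtype) := by
  let f : M →ₗ[R] (ι → M) := LinearMap.pi fun i => LinearMap.lsmul R M (a i)
  have hex : Function.Exact (tb Finset.univ a M).subtype f := by
    intro x
    constructor
    · intro hx
      exact ⟨⟨x, fun i _ => congrFun hx i⟩, rfl⟩
    · rintro ⟨x, rfl⟩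
      exact funext fun i => x.2 i (Finset.mem_univ i)
  have h1 := Module.Flat.lTensor_exact T hex
  refine (h1 z).1 ?_
  apply (TensorProduct.piRight R R T (fun _ : ι => M)).injective
  rw [map_zero]
  funext i
  have key : ∀ z : T ⊗[R] M,
      TensorProduct.piRight R R T (fun _ : ι => M) (LinearMap.lTensor T f z) i = a i • z := by
    intro z
    induction z using TensorProduct.induction_on with
    | zero => rw [map_zero, map_zero, smul_zero]; rfl
    | add x y hx hy => rw [map_add, map_add, Pi.add_apply, hx, hy, smul_add]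
    | tmul t m =>
      rw [LinearMap.lTensor_tmul, TensorProduct.piRight_apply, TensorProduct.piRightHom_tmul]
      change t ⊗ₜ[R] (a i • m) = a i • t ⊗ₜ[R] m
      rw [TensorProduct.tmul_smul]
  rw [key, hz i]; rfl

/-- The main step. -/
theorem step [Module.Flat R T] {M : Type v} {N : Type v'} [AddCommGroup M] [Module R M]
    [AddCommGroup N] [Module T N] [IsArtinian T (T ⊗[R] M)] (g : T ⊗[R] M →ₗ[T] N)
    (hg : Function.Surjective g) (y : ι → T) (a : ι → R) (q : ℕ) (hq : 2 ≤ q)
    (hya : ∀ i, algebraMap R T (a i) = y i ^ q) :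
    ∃ j : ι → ℕ, (∀ i, 1 ≤ j i) ∧ ∀ n : N, (∀ i, y i ^ j i • n = 0) →
      n ∈ Submodule.span T ((fun m : M => g (1 ⊗ₜ m)) '' {m : M | ∀ i, a i ^ j i • m = 0}) := by
  obtain ⟨j, hj1, hj⟩ := exists_exponents (R := T) (M := T ⊗[R] M) (LinearMap.ker g) y q hq
    Finset.univ
  refine ⟨j, hj1, fun n hn => ?_⟩
  obtain ⟨z, rfl⟩ := hg n
  obtain ⟨κ, hκ, hκ'⟩ := hj z (fun i _ => by
    rw [LinearMap.mem_ker, map_smul, hn i])
  have h1 : ∀ i, (a i ^ j i) • (z - κ) = 0 := by
    intro i
    have h2 := hκ' i (Finset.mem_univ i)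
    rw [pow_mul, ← hya, ← map_pow, algebraMap_smul] at h2
    exact h2
  have h2 := mem_range_of_flat (fun i => a i ^ j i) (z - κ) h1
  have h3 : g z = g (z - κ) := by
    rw [map_sub, (LinearMap.mem_ker.1 hκ), sub_zero]
  rw [h3]
  obtain ⟨w, hw⟩ := h2
  rw [← hw]
  clear hw
  induction w using TensorProduct.induction_on with
  | zero => rw [map_zero, map_zero]; exact zero_mem _
  | add x y hx hy => rw [map_add, map_add]; exact add_mem hx hy
  | tmul t m =>
    have h4 : (LinearMap.lTensor T (tb Finset.univ (fun i => a i ^ j i) M).subtype) (t ⊗ₜ m) =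
        t • ((1 : T) ⊗ₜ[R] (m : M)) := by
      rw [LinearMap.lTensor_tmul, TensorProduct.smul_tmul', smul_eq_mul, mul_one]
      rfl
    rw [h4, map_smul]
    exact Submodule.smul_mem _ _ (Submodule.subset_span ⟨m, fun i => m.2 i (Finset.mem_univ i), rfl⟩)

end flat

section artin

variable {T : Type u} [CommRing T] [IsNoetherianRing T] {ι : Type w} [Fintype ι] [DecidableEq ι]

theorem isArtinianRing_quot (y : ι → T) (q : ℕ)
    (hy : (Ideal.span (Set.range y)).IsMaximal) :
    IsArtinianRing (T ⧸ Ideal.span (Set.range fun i => y i ^ q)) := by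
  set J := Ideal.span (Set.range fun i => y i ^ q) with hJ
  rw [isArtinianRing_iff_krullDimLE_zero, Ring.krullDimLE_zero_iff]
  intro I hI
  have h1 : (I.comap (Ideal.Quotient.mk J)).IsPrime := Ideal.comap_isPrime _ _
  have h2 : Ideal.span (Set.range y) ≤ I.comap (Ideal.Quotient.mk J) := by
    rw [Ideal.span_le]
    rintro _ ⟨i, rfl⟩
    apply h1.mem_of_pow_mem q
    rw [Ideal.mem_comap]
    have h3 : Ideal.Quotient.mk J (y i ^ q) = 0 :=
      Ideal.Quotient.eq_zero_iff_mem.2 (Ideal.subset_span ⟨i, rfl⟩)
    rw [h3]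
    exact zero_mem _
  have h3 := hy.eq_of_le h1.ne_top h2
  have h4 : (I.comap (Ideal.Quotient.mk J)).IsMaximal := h3 ▸ hy
  have h5 : I = (I.comap (Ideal.Quotient.mk J)).map (Ideal.Quotient.mk J) :=
    (Ideal.map_comap_of_surjective _ Ideal.Quotient.mk_surjective I).symm
  rcases Ideal.map_eq_top_or_isMaximal_of_surjective (Ideal.Quotient.mk J)
    Ideal.Quotient.mk_surjective h4 with h6 | h6
  · rw [← h5] at h6
    exact absurd h6 hI.ne_top
  · rwa [← h5] at h6

theorem isArtinian_of_finite_of_pow (y : ι → T) (q : ℕ)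
    (hy : (Ideal.span (Set.range y)).IsMaximal) {Q : Type v} [AddCommGroup Q] [Module T Q]
    [Module.Finite T Q] (hQ : ∀ i, ∀ z : Q, y i ^ q • z = 0) : IsArtinian T Q := by
  have h1 := isArtinianRing_quot y q hy
  set J := Ideal.span (Set.range fun i => y i ^ q) with hJ
  have h2 : IsArtinian T (T ⧸ J) :=
    isArtinian_of_surjective_algebraMap (R := T ⧸ J) (S := T) (M := T ⧸ J)
      Ideal.Quotient.mk_surjective
  have hker : ∀ z : Q, ∀ t ∈ J, t • z = 0 := by
    intro z t ht
    induction ht using Submodule.span_induction with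
    | mem t ht => obtain ⟨i, rfl⟩ := ht; exact hQ i z
    | zero => exact zero_smul _ _
    | add a b _ _ ha hb => rw [add_smul, ha, hb, add_zero]
    | smul c a _ ha => rw [smul_eq_mul, mul_smul, ha, smul_zero]
  obtain ⟨n, f, hf⟩ := Module.Finite.exists_fin (R := T) (M := Q)
  let F : (Fin n → T ⧸ J) →ₗ[T] Q := LinearMap.lsum T (fun _ : Fin n => T ⧸ J) T fun l =>
    Submodule.liftQ J (LinearMap.toSpanSingleton T Q (f l)) (fun t ht => hker (f l) t ht)
  refine isArtinian_of_surjective _ F ?_
  rw [← LinearMap.range_eq_top, eq_top_iff, ← hf, Submodule.span_le]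
  rintro _ ⟨l, rfl⟩
  refine ⟨Pi.single l 1, ?_⟩
  change LinearMap.lsum T (fun _ : Fin n => T ⧸ J) T _ _ = _
  rw [LinearMap.lsum_apply, LinearMap.sum_apply, Finset.sum_eq_single l]
  · rw [LinearMap.comp_apply, LinearMap.proj_apply, Pi.single_eq_same]
    change (Submodule.liftQ J (LinearMap.toSpanSingleton T Q (f l)) _) (Submodule.Quotient.mk 1) = _
    rw [Submodule.liftQ_apply, LinearMap.toSpanSingleton_apply, one_smul]
  · intro b _ hb
    rw [LinearMap.comp_apply, LinearMap.proj_apply, Pi.single_eq_of_ne hb, map_zero]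
  · intro h
    exact absurd (Finset.mem_univ _) h

end artin

section frob

/-- `R` as an `R`-algebra through Frobenius. -/
@[nolint unusedArguments]
def Fr (_p : ℕ) (R : Type u) : Type u := R

/-- The module `M`, over `Fr p R` and over `R` through Frobenius. -/
@[nolint unusedArguments]
def FrM (_p : ℕ) (_R : Type u) (M : Type v) : Type v := M

variable (p : ℕ) [Fact p.Prime] (R : Type u) [CommRing R] [CharP R p] (M : Type v) [AddCommGroup M]
  [Module R M]

instance : CommRing (Fr p R) := inferInstanceAs (CommRing R)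

/-- The identity map. -/
def toFr : R ≃+* Fr p R := RingEquiv.refl R

instance : Algebra R (Fr p R) := ((toFr p R : R →+* Fr p R).comp (frobenius R p)).toAlgebra

theorem algebraMap_fr (a : R) : algebraMap R (Fr p R) a = toFr p R a ^ p := rfl

instance : AddCommGroup (FrM p R M) := inferInstanceAs (AddCommGroup M)

instance : Module (Fr p R) (FrM p R M) := inferInstanceAs (Module R M)

instance : Module R (FrM p R M) := Module.compHom (FrM p R M) (algebraMap R (Fr p R))

instance : IsScalarTower R (Fr p R) (FrM p R M) := ⟨fun a b c => by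
  change (algebraMap R (Fr p R) a * b) • c = algebraMap R (Fr p R) a • (b • c)
  rw [mul_smul]⟩

instance [IsNoetherianRing R] : IsNoetherianRing (Fr p R) := inferInstanceAs (IsNoetherianRing R)

theorem flat_fr (hF : (frobenius R p).Flat) : Module.Flat R (Fr p R) := by
  have h : ((toFr p R : R →+* Fr p R).comp (frobenius R p)).Flat :=
    hF.comp (RingHom.Flat.of_bijective (toFr p R).bijective)
  exact h

variable {R M p}

/-- A Frobenius-semilinear map as a linear map. -/
def lin (φ : M →ₛₗ[frobenius R p] M) : M →ₗ[R] FrM p R M where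
  toFun := φ
  map_add' := map_add φ
  map_smul' := fun a x => map_smulₛₗ φ a x

/-- The linearisation. -/
noncomputable def linz (φ : M →ₛₗ[frobenius R p] M) : Fr p R ⊗[R] M →ₗ[Fr p R] FrM p R M :=
  (lin φ).liftBaseChange (Fr p R)

theorem linz_one_tmul (φ : M →ₛₗ[frobenius R p] M) (x : M) : linz φ (1 ⊗ₜ x) = φ x := by
  rw [linz, LinearMap.liftBaseChange_tmul, one_smul]; rfl

variable {ι : Type w} [Fintype ι] [DecidableEq ι]

theorem isArtinian_tensor [IsNoetherianRing R] (hF : (frobenius R p).Flat) (y : ι → R)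
    (hy : (Ideal.span (Set.range y)).IsMaximal)
    (htors : ∀ i, ∀ x : M, ∃ j : ℕ, y i ^ j • x = 0)
    (hsoc : IsNoetherian R (tb Finset.univ y M)) : IsArtinian (Fr p R) (Fr p R ⊗[R] M) := by
  have := flat_fr p R hF
  have hya : ∀ i (z : Fr p R ⊗[R] M) (j : ℕ), toFr p R (y i) ^ (p * j) • z = (y i ^ j) • z := by
    intro i z j
    rw [pow_mul, ← algebraMap_fr, ← map_pow, algebraMap_smul]
  apply isArtinian_of_torsion Finset.univ (fun i => toFr p R (y i))
  · intro i _ z
    induction z using TensorProduct.induction_on with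
    | zero => exact ⟨0, smul_zero _⟩
    | tmul t m =>
      obtain ⟨j, hj⟩ := htors i m
      exact ⟨p * j, by rw [hya, ← TensorProduct.tmul_smul, hj, TensorProduct.tmul_zero]⟩
    | add a b ha hb =>
      obtain ⟨j, hj⟩ := ha
      obtain ⟨l, hl⟩ := hb
      refine ⟨j + l, ?_⟩
      rw [smul_add, pow_add, mul_comm, mul_smul, hj, smul_zero, zero_add, mul_comm, mul_smul, hl,
        smul_zero]
  · have hfin : Module.Finite R (tb Finset.univ y M) := inferInstance
    have h1 : IsArtinian (Fr p R) (Fr p R ⊗[R] tb Finset.univ y M) := by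
      have hy' : (Ideal.span (Set.range fun i => toFr p R (y i))).IsMaximal := hy
      refine isArtinian_of_finite_of_pow (T := Fr p R) (fun i => toFr p R (y i)) p hy'
        (fun i z => ?_)
      have h2 : toFr p R (y i) ^ p • z = y i • z := by
        rw [← algebraMap_fr, algebraMap_smul]
      rw [h2]
      clear h2
      induction z using TensorProduct.induction_on with
      | zero => exact smul_zero _
      | tmul t m =>
        have h3 : y i • m = 0 := Subtype.ext (m.2 i (Finset.mem_univ i))
        rw [← TensorProduct.tmul_smul, h3, TensorProduct.tmul_zero]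
      | add a b ha hb => rw [smul_add, ha, hb, add_zero]
    have h2 : tb Finset.univ (fun i => toFr p R (y i)) (Fr p R ⊗[R] M) ≤
        LinearMap.range ((tb Finset.univ y M).subtype.baseChange (Fr p R)) := by
      intro z hz
      obtain ⟨w, hw⟩ := mem_range_of_flat (T := Fr p R) y z (fun i => by
        have h3 := hya i z 1
        rw [pow_one, mul_one] at h3
        rw [← h3]
        have hz' : toFr p R (y i) • z = 0 := hz i (Finset.mem_univ i)
        have h4 : ∀ r, 1 ≤ r → toFr p R (y i) ^ r • z = 0 := by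
          intro r hr
          obtain ⟨r, rfl⟩ := Nat.exists_eq_add_of_le' hr
          rw [pow_succ, mul_smul, hz', smul_zero]
        exact h4 p (Fact.out : p.Prime).pos)
      exact ⟨w, hw⟩
    exact isArtinian_of_le h2

/-- The case where the image generates. -/
theorem eq_zero_of_span_eq_top [IsNoetherianRing R] (hF : (frobenius R p).Flat) (y : ι → R)
    (hy : (Ideal.span (Set.range y)).IsMaximal)
    (htors : ∀ i, ∀ x : M, ∃ j : ℕ, y i ^ j • x = 0)
    (hsoc : IsNoetherian R (tb Finset.univ y M))
    (φ : M →ₛₗ[frobenius R p] M) (hloc : ∀ x : M, ∃ n : ℕ, (⇑φ)^[n] x = 0)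
    (hφ : Submodule.span R (Set.range φ) = ⊤) : ∀ x : M, x = 0 := by
  have := flat_fr p R hF
  have := isArtinian_tensor hF y hy htors hsoc
  have hsurj : Function.Surjective (linz φ) := by
    intro m
    have h1 : (m : M) ∈ Submodule.span R (Set.range φ) := by rw [hφ]; trivial
    induction h1 using Submodule.span_induction with
    | mem m hm => obtain ⟨x, rfl⟩ := hm; exact ⟨1 ⊗ₜ x, linz_one_tmul φ x⟩
    | zero => exact ⟨0, map_zero _⟩
    | add a b _ _ ha hb =>
      obtain ⟨x, hx⟩ := ha
      obtain ⟨z, hz⟩ := hb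
      exact ⟨x + z, by rw [map_add, hx, hz]; rfl⟩
    | smul c a _ ha =>
      obtain ⟨x, hx⟩ := ha
      exact ⟨toFr p R c • x, by rw [map_smul, hx]; rfl⟩
  obtain ⟨j, hj1, hj⟩ := step (linz φ) hsurj (fun i => toFr p R (y i)) y p
    (Fact.out : p.Prime).two_le (fun i => algebraMap_fr p R (y i))
  let P : Submodule R M := tb Finset.univ (fun i => y i ^ j i) M
  have hP : ∀ x ∈ P, x ∈ Submodule.span R (φ '' (P : Set M)) := by
    intro x hx
    have h1 := hj x (fun i => hx i (Finset.mem_univ i))
    have h2 : ((fun m : M => linz φ (1 ⊗ₜ m)) '' {m : M | ∀ i, y i ^ j i • m = 0}) =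
        φ '' (P : Set M) := by
      ext z
      constructor
      · rintro ⟨m, hm, rfl⟩
        exact ⟨m, fun i _ => hm i, (linz_one_tmul φ m).symm⟩
      · rintro ⟨m, hm, rfl⟩
        exact ⟨m, fun i => hm i (Finset.mem_univ i), linz_one_tmul φ m⟩
    rw [h2] at h1
    exact h1
  have hPN : IsNoetherian R P := isNoetherian_tb_pow Finset.univ y j M hsoc
  -- some iterate kills `P`
  have hpow : ∀ (e : ℕ) (a : R) (x : M), (⇑φ)^[e] (a • x) = a ^ p ^ e • (⇑φ)^[e] x := by
    intro e
    induction e with
    | zero => intro a x; simp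
    | succ e ih =>
      intro a x
      rw [Function.iterate_succ_apply', ih, map_smulₛₗ, frobenius_def, ← pow_mul, ← pow_succ,
        Function.iterate_succ_apply']
  have hadd : ∀ (e : ℕ) (a b : M), (⇑φ)^[e] (a + b) = (⇑φ)^[e] a + (⇑φ)^[e] b := by
    intro e
    induction e with
    | zero => intro a b; simp
    | succ e ih =>
      intro a b
      rw [Function.iterate_succ_apply', ih, map_add, Function.iterate_succ_apply',
        Function.iterate_succ_apply']
  have hzero : ∀ e, (⇑φ)^[e] (0 : M) = 0 := by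
    intro e
    induction e with
    | zero => rfl
    | succ e ih => rw [Function.iterate_succ_apply', ih, map_zero]
  obtain ⟨e, he⟩ : ∃ e, ∀ x ∈ P, (⇑φ)^[e] x = 0 := by
    obtain ⟨s, hs⟩ := (isNoetherian_submodule.1 hPN) P le_rfl
    choose n hn using hloc
    refine ⟨s.sup n, fun x hx => ?_⟩
    rw [← hs] at hx
    induction hx using Submodule.span_induction with
    | mem x hx =>
      have h1 : n x ≤ s.sup n := Finset.le_sup (f := n) hx
      obtain ⟨r, hr⟩ := Nat.exists_eq_add_of_le h1
      rw [hr, add_comm, Function.iterate_add_apply, hn, hzero]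
    | zero => exact hzero _
    | add a b _ _ ha hb => rw [hadd, ha, hb, add_zero]
    | smul c a _ ha => rw [hpow, ha, smul_zero]
  have hP2 : ∀ e : ℕ, ∀ x ∈ P, x ∈ Submodule.span R ((⇑φ)^[e] '' (P : Set M)) := by
    intro e
    induction e with
    | zero => intro x hx; exact Submodule.subset_span ⟨x, hx, rfl⟩
    | succ e ih =>
      intro x hx
      refine Submodule.span_induction (p := fun x _ => x ∈ Submodule.span R ((⇑φ)^[e+1] '' (P : Set M)))
        ?_ ?_ ?_ ?_ (hP x hx)
      · rintro _ ⟨z, hz, rfl⟩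
        refine Submodule.span_induction
          (p := fun z _ => φ z ∈ Submodule.span R ((⇑φ)^[e+1] '' (P : Set M))) ?_ ?_ ?_ ?_ (ih z hz)
        · rintro _ ⟨w, hw, rfl⟩
          exact Submodule.subset_span ⟨w, hw, Function.iterate_succ_apply' _ _ _⟩
        · rw [map_zero]; exact zero_mem _
        · intro a b _ _ ha hb
          rw [map_add]; exact add_mem ha hb
        · intro c a _ ha
          rw [map_smulₛₗ]; exact Submodule.smul_mem _ _ ha
      · exact zero_mem _
      · intro a b _ _ ha hb; exact add_mem ha hb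
      · intro c a _ ha; exact Submodule.smul_mem _ _ ha
  have hP0 : ∀ x ∈ P, x = 0 := by
    intro x hx
    have h1 := hP2 e x hx
    have h2 : Submodule.span R ((⇑φ)^[e] '' (P : Set M)) ≤ ⊥ := by
      rw [Submodule.span_le]
      rintro _ ⟨w, hw, rfl⟩
      exact he w hw
    exact h2 h1
  apply eq_zero_of_torsion Finset.univ y M (fun i _ => htors i)
  intro x hx
  apply hP0
  intro i _
  change y i ^ j i • x = 0
  obtain ⟨r, hr⟩ := Nat.exists_eq_add_of_le' (hj1 i)
  rw [hr, pow_succ, mul_smul, hx i (Finset.mem_univ i), smul_zero]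

theorem iterate_zero (φ : M →ₛₗ[frobenius R p] M) (e : ℕ) : (⇑φ)^[e] (0 : M) = 0 := by
  induction e with
  | zero => rfl
  | succ e ih => rw [Function.iterate_succ_apply', ih, map_zero]

theorem core [IsNoetherianRing R] (hF : (frobenius R p).Flat) (y : ι → R)
    (hy : (Ideal.span (Set.range y)).IsMaximal)
    (htors : ∀ i, ∀ x : M, ∃ j : ℕ, y i ^ j • x = 0)
    (hsoc : IsNoetherian R (tb Finset.univ y M))
    (φ : M →ₛₗ[frobenius R p] M) (hloc : ∀ x : M, ∃ n : ℕ, (⇑φ)^[n] x = 0) :
    ∃ n : ℕ, ∀ x : M, (⇑φ)^[n] x = 0 := by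
  have hfld : IsArtinian R (tb Finset.univ y M) :=
    isArtinian_of_finite_of_pow y 1 hy (fun i z => by
      rw [pow_one]; exact Subtype.ext (z.2 i (Finset.mem_univ i)))
  have hart : IsArtinian R M := isArtinian_of_torsion Finset.univ y M (fun i _ => htors i) hfld
  let L : Submodule R M → Submodule R M := fun W => Submodule.span R (φ '' (W : Set M))
  have hL : Monotone L := fun W W' h => Submodule.span_mono (Set.image_mono h)
  let W : ℕ → Submodule R M := fun e => L^[e] ⊤
  have hWs : ∀ e, W (e + 1) = L (W e) := fun e => Function.iterate_succ_apply' _ _ _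
  have hWanti : Antitone W := by
    refine antitone_nat_of_succ_le fun e => ?_
    induction e with
    | zero => exact le_top
    | succ e ih => rw [hWs (e + 1), hWs e]; rw [hWs] at ih; exact hL ih
  have hWmem : ∀ e x, (⇑φ)^[e] x ∈ W e := by
    intro e
    induction e with
    | zero => intro x; trivial
    | succ e ih =>
      intro x
      rw [Function.iterate_succ_apply', hWs]
      exact Submodule.subset_span ⟨_, ih x, rfl⟩
  obtain ⟨e, he⟩ := IsArtinian.monotone_stabilizes (R := R) (M := M)
    ⟨fun e => OrderDual.toDual (W e), fun a b h => hWanti h⟩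
  have he' : W e = W (e + 1) := he (e + 1) (Nat.le_succ e)
  have hφN : ∀ x ∈ W e, φ x ∈ W e := by
    intro x hx
    rw [he', hWs]
    exact Submodule.subset_span ⟨x, hx, rfl⟩
  let ψ : W e →ₛₗ[frobenius R p] W e :=
    { toFun := fun x => ⟨φ x, hφN x x.2⟩
      map_add' := fun a b => Subtype.ext (map_add φ (a : M) (b : M))
      map_smul' := fun a b => Subtype.ext (map_smulₛₗ φ a (b : M)) }
  have hψ : ∀ n (x : W e), (((⇑ψ)^[n] x : W e) : M) = (⇑φ)^[n] (x : M) := by
    intro n
    induction n with
    | zero => intro x; rfl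
    | succ n ih =>
      intro x
      rw [Function.iterate_succ_apply', Function.iterate_succ_apply', ← ih]
      rfl
  have hzero : ∀ x : W e, x = 0 := by
    refine eq_zero_of_span_eq_top hF y hy (fun i x => ?_) ?_ ψ (fun x => ?_) ?_
    · obtain ⟨j, hj⟩ := htors i x
      exact ⟨j, Subtype.ext hj⟩
    · refine isNoetherian_of_injective (((W e).subtype.comp
        (tb Finset.univ y (W e)).subtype).codRestrict (tb Finset.univ y M)
          (fun x i hi => congrArg Subtype.val (x.2 i hi))) ?_
      intro x x' hxx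
      exact Subtype.ext (Subtype.ext (congrArg (fun z : tb Finset.univ y M => (z : M)) hxx))
    · obtain ⟨n, hn⟩ := hloc x
      exact ⟨n, Subtype.ext (by rw [hψ, hn]; rfl)⟩
    · rw [eq_top_iff]
      rintro ⟨x, hx⟩ -
      have h1 : x ∈ L (W e) := by rw [← hWs, ← he']; exact hx
      have h2 : (Submodule.span R (Set.range ψ)).map (W e).subtype = L (W e) := by
        rw [Submodule.map_span]
        congr 1
        ext z
        constructor
        · rintro ⟨_, ⟨w, rfl⟩, rfl⟩
          exact ⟨w, w.2, rfl⟩
        · rintro ⟨w, hw, rfl⟩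
          exact ⟨ψ ⟨w, hw⟩, ⟨_, rfl⟩, rfl⟩
      rw [← h2] at h1
      obtain ⟨w, hw, hwx⟩ := h1
      have h3 : w = ⟨x, hx⟩ := Subtype.ext hwx
      rwa [← h3]
  refine ⟨e, fun x => ?_⟩
  exact congrArg Subtype.val (hzero ⟨_, hWmem e x⟩)

end frob

end K675.HSLCore
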