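import Mathlib.FieldTheory.IsPerfectClosure
import Mathlib.RingTheory.Flat.EquationalCriterion
import Mathlib.RingTheory.Flat.FaithfullyFlat.Algebra
import Mathlib.RingTheory.RingHom.FaithfullyFlat
import Mathlib.RingTheory.RingHom.Flat
import Mathlib.Algebra.Module.Projective

/-!
# The perfect closure as a colimit along Frobenius

For a ring `R` of characteristic `p`, `Rn p R n` is `R` as an `R`-algebra through `F^n`.
For an `IsPRadical` map `i : R → L` to a perfect ring `L` there are ring maps
`root i n : R → L`, `(root i n r)^(p^n) = i r`, which exhibit `L` as the colimit of the `Rn p R n`.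

* `flat_of_flat_frobenius` : `L` is flat over `R` when the Frobenius of `R` is flat.
* `faithfullyFlat_of_flat_frobenius`, `faithfullyFlat_of` (for `PerfectClosure.of`).
* `root_faithfullyFlat`.
* `exists_tensor_eq` : every element of `L ⊗[R] X` comes from some `Rn p R n ⊗[R] X`.
* `projective_trans`, `rn_projective`.
-/

set_option autoImplicit false
universe u v w

namespace K675.PerfColim

open TensorProduct

/-- `R` as an `R`-algebra through the `n`-th iterate of Frobenius. -/
@[nolint unusedArguments]
def Rn (_p : ℕ) (R : Type u) (_n : ℕ) : Type u := R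

section defs

variable (p : ℕ) [Fact p.Prime] (R : Type u) [CommRing R] [CharP R p] (n : ℕ)

instance : CommRing (Rn p R n) := inferInstanceAs (CommRing R)

/-- The identity map. -/
def toRn : R ≃+* Rn p R n := RingEquiv.refl R

instance : Algebra R (Rn p R n) :=
  ((toRn p R n : R →+* Rn p R n).comp (iterateFrobenius R p n)).toAlgebra

theorem algebraMap_rn (a : R) : algebraMap R (Rn p R n) a = toRn p R n (a ^ p ^ n) := rfl

theorem smul_rn (a : R) (x : Rn p R n) : a • x = toRn p R n (a ^ p ^ n) * x := rfl

theorem iterateFrobenius_flat (hF : (frobenius R p).Flat) (n : ℕ) :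
    (iterateFrobenius R p n).Flat := by
  induction n with
  | zero => rw [iterateFrobenius_zero]; exact RingHom.Flat.id R
  | succ n ih =>
    rw [iterateFrobenius_add, iterateFrobenius_one]
    exact hF.comp ih

theorem rn_flat (hF : (frobenius R p).Flat) : Module.Flat R (Rn p R n) := by
  have h : ((toRn p R n : R →+* Rn p R n).comp (iterateFrobenius R p n)).Flat :=
    (iterateFrobenius_flat p R hF n).comp (RingHom.Flat.of_bijective (toRn p R n).bijective)
  exact h

theorem iterateFrobenius_flat_of_rn [h : Module.Flat R (Rn p R n)] :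
    (iterateFrobenius R p n).Flat := by
  have h1 : ((toRn p R n : R →+* Rn p R n).comp (iterateFrobenius R p n)).Flat := h
  have h2 : ((toRn p R n).symm : Rn p R n →+* R).Flat :=
    RingHom.Flat.of_bijective (toRn p R n).symm.bijective
  exact h1.comp h2

theorem frobenius_flat_of_rn [Module.Flat R (Rn p R 1)] : (frobenius R p).Flat := by
  rw [← iterateFrobenius_one]
  exact iterateFrobenius_flat_of_rn p R 1

end defs

/-- The trivial relations in `R` over itself through `F^n`. -/
theorem exists_trivial (p : ℕ) [Fact p.Prime] (R : Type u) [CommRing R] [CharP R p]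
    (hF : (frobenius R p).Flat) (n : ℕ) {l : ℕ} (f x : Fin l → R)
    (h : ∑ i, f i ^ p ^ n * x i = 0) :
    ∃ (k : ℕ) (a : Fin l → Fin k → R) (y : Fin k → R),
      (∀ i, x i = ∑ j, a i j ^ p ^ n * y j) ∧ ∀ j, ∑ i, f i * a i j = 0 := by
  have := rn_flat p R n hF
  have h' : ∑ i, f i • toRn p R n (x i) = 0 := by
    rw [← map_zero (toRn p R n), ← h, map_sum]
    exact Finset.sum_congr rfl fun i _ => rfl
  obtain ⟨k, a, y, h1, h2⟩ := Module.Flat.isTrivialRelation_of_sum_smul_eq_zero h'
  refine ⟨k, a, fun j => (toRn p R n).symm (y j), fun i => ?_, h2⟩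
  exact h1 i

/-- For a `p`-radical map, proper ideals extend to proper ideals. -/
theorem map_ne_top (p : ℕ) [Fact p.Prime] {R : Type u} [CommRing R] [CharP R p] {L : Type v}
    [CommRing L] [CharP L p] (i : R →+* L) [IsPRadical i p] (I : Ideal R) (hI : I ≠ ⊤) :
    I.map i ≠ ⊤ := by
  rw [Ideal.ne_top_iff_one] at hI ⊢
  intro h
  apply hI
  -- every element of `I L` has a `p^n`-th power in `i(I)`
  have key : ∀ x ∈ I.map i, ∃ (n : ℕ) (a : R), a ∈ I ∧ i a = x ^ p ^ n := by
    intro x hx
    induction hx using Submodule.span_induction with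
    | mem y hy =>
      obtain ⟨a, ha, rfl⟩ := hy
      exact ⟨0, a, ha, by rw [pow_zero, pow_one]⟩
    | zero => exact ⟨0, 0, I.zero_mem, by rw [pow_zero, pow_one, map_zero]⟩
    | add y z _ _ hy hz =>
      obtain ⟨n, a, ha, hn⟩ := hy
      obtain ⟨m, b, hb, hm⟩ := hz
      refine ⟨n + m, a ^ p ^ m + b ^ p ^ n, I.add_mem ?_ ?_, ?_⟩
      · exact Ideal.pow_mem_of_mem _ ha _ (pow_pos (Fact.out : p.Prime).pos _)
      · exact Ideal.pow_mem_of_mem _ hb _ (pow_pos (Fact.out : p.Prime).pos _)
      · rw [map_add, map_pow, map_pow, hn, hm, ← pow_mul, ← pow_mul, ← pow_add, ← pow_add,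
          add_comm m n, add_pow_char_pow]
    | smul c y _ hy =>
      obtain ⟨n, a, ha, hn⟩ := hy
      obtain ⟨m, b, hb⟩ := IsPRadical.pow_mem i p c
      refine ⟨n + m, b ^ p ^ n * a ^ p ^ m, I.mul_mem_left _ ?_, ?_⟩
      · exact Ideal.pow_mem_of_mem _ ha _ (pow_pos (Fact.out : p.Prime).pos _)
      · rw [map_mul, map_pow, map_pow, hb, hn, smul_eq_mul, mul_pow, ← pow_mul, ← pow_mul,
          ← pow_add, ← pow_add, add_comm m n]
  obtain ⟨n, a, ha, hn⟩ := key 1 h
  rw [one_pow] at hn
  have h1 : i (a - 1) = 0 := by rw [map_sub, hn, map_one, sub_self]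
  obtain ⟨k, hk⟩ := mem_pNilradical.1 (IsPRadical.ker_le i p (RingHom.mem_ker.2 h1))
  rw [sub_pow_char_pow, one_pow, sub_eq_zero] at hk
  rw [← hk]
  exact Ideal.pow_mem_of_mem _ ha _ (pow_pos (Fact.out : p.Prime).pos _)

theorem faithfullyFlat_comp {R : Type u} {S : Type v} {T : Type w} [CommRing R] [CommRing S]
    [CommRing T] (f : R →+* S) (g : S →+* T) (hf : f.FaithfullyFlat) (hg : g.FaithfullyFlat) :
    (g.comp f).FaithfullyFlat := by
  let := f.toAlgebra
  let := g.toAlgebra
  let := (g.comp f).toAlgebra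
  have : IsScalarTower R S T := IsScalarTower.of_algebraMap_eq fun _ => rfl
  have : Module.FaithfullyFlat R S := hf
  have : Module.FaithfullyFlat S T := hg
  exact Module.FaithfullyFlat.trans R S T

section root

variable (p : ℕ) [Fact p.Prime] {R : Type u} [CommRing R] [CharP R p] {L : Type v} [CommRing L]
  [CharP L p] [PerfectRing L p] (i : R →+* L)

/-- The `p^n`-th root of the image in `L`. -/
noncomputable def root (n : ℕ) : R →+* L :=
  ((iterateFrobeniusEquiv L p n).symm : L →+* L).comp i

omit [CharP R p] in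
theorem root_pow (n : ℕ) (r : R) : (root p i n r) ^ p ^ n = i r :=
  (iterateFrobeniusEquiv L p n).apply_symm_apply (i r)

omit [CharP R p] in
theorem eq_root_iff (n : ℕ) (x : L) (r : R) : x = root p i n r ↔ x ^ p ^ n = i r := by
  constructor
  · rintro rfl
    exact root_pow p i n r
  · intro h
    apply (iterateFrobeniusEquiv L p n).injective
    exact h.trans (root_pow p i n r).symm

omit [CharP R p] in
theorem root_zero (r : R) : root p i 0 r = i r := by
  rw [eq_comm, eq_root_iff, pow_zero, pow_one]

omit [CharP R p] in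
theorem root_pow_self (n : ℕ) (r : R) : root p i n (r ^ p ^ n) = i r := by
  rw [map_pow, root_pow]

omit [CharP R p] in
theorem root_add (n k : ℕ) (r : R) : root p i (n + k) (r ^ p ^ k) = root p i n r := by
  symm
  rw [eq_root_iff, pow_add, pow_mul, root_pow, map_pow]

omit [CharP R p] in
theorem root_flat {n : ℕ} (hi : i.Flat) : (root p i n).Flat :=
  hi.comp (RingHom.Flat.of_bijective (iterateFrobeniusEquiv L p n).symm.bijective)

omit [CharP R p] in
theorem root_faithfullyFlat {n : ℕ} (hi : i.FaithfullyFlat) : (root p i n).FaithfullyFlat := by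
  have h : ((iterateFrobeniusEquiv L p n).symm : L →+* L).FaithfullyFlat :=
    RingHom.FaithfullyFlat.of_bijective (iterateFrobeniusEquiv L p n).symm.bijective
  exact faithfullyFlat_comp i _ hi h

variable [IsPRadical i p]

omit [CharP R p] in
theorem exists_root (x : L) : ∃ (n : ℕ) (r : R), x = root p i n r := by
  obtain ⟨n, y, hy⟩ := IsPRadical.pow_mem i p x
  exact ⟨n, y, (eq_root_iff p i n x y).2 hy.symm⟩

omit [CharP R p] in
/-- Finitely many elements of `L` are images under one `root i n`. -/
theorem exists_root_finset {ι : Type w} [Finite ι] (x : ι → L) :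
    ∃ (n : ℕ) (r : ι → R), ∀ j, x j = root p i n (r j) := by
  have := Fintype.ofFinite ι
  choose n r h using fun j => exists_root p i (x j)
  refine ⟨∑ j, n j, fun j => r j ^ p ^ (∑ j, n j - n j), fun j => ?_⟩
  have hle : n j ≤ ∑ j, n j := Finset.single_le_sum (fun _ _ => Nat.zero_le _) (Finset.mem_univ j)
  have h2 : ∑ j, n j = n j + (∑ j, n j - n j) := by omega
  rw [h j, ← root_add p i (n j) (∑ j, n j - n j) (r j), ← h2]

omit [CharP R p] in
theorem exists_pow_eq_zero (n : ℕ) (r : R) (h : root p i n r = 0) : ∃ k, r ^ p ^ k = 0 := by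
  have h1 : i r = 0 := by
    rw [← root_pow p i n r, h, zero_pow]
    exact pow_ne_zero _ (Fact.out : p.Prime).ne_zero
  have h2 := IsPRadical.ker_le i p (RingHom.mem_ker.2 h1)
  exact mem_pNilradical.1 h2

/-- A perfect closure is flat when Frobenius is flat. -/
theorem flat_of_flat_frobenius (hF : (frobenius R p).Flat) : i.Flat := by
  let := i.toAlgebra
  change Module.Flat R L
  apply Module.Flat.of_forall_isTrivialRelation
  intro l f x hfx
  obtain ⟨n, r, hr⟩ := exists_root_finset p i x
  have h1 : root p i n (∑ j, f j ^ p ^ n * r j) = 0 := by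
    rw [map_sum, ← hfx]
    refine Finset.sum_congr rfl fun j _ => ?_
    rw [map_mul, root_pow_self, ← hr]
    rfl
  obtain ⟨k, hk⟩ := exists_pow_eq_zero p i n _ h1
  rw [sum_pow_char_pow] at hk
  have h2 : ∑ j, f j ^ p ^ (n + k) * (r j ^ p ^ k) = 0 := by
    rw [← hk]
    refine Finset.sum_congr rfl fun j _ => ?_
    rw [mul_pow, ← pow_mul, pow_add]
  obtain ⟨m, a, y, h3, h4⟩ := exists_trivial p R hF (n + k) f _ h2
  refine ⟨m, a, fun j => root p i (n + k) (y j), fun j => ?_, h4⟩
  rw [hr, ← root_add p i n k, h3, map_sum]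
  refine Finset.sum_congr rfl fun j' _ => ?_
  rw [map_mul, root_pow_self]
  rfl

theorem faithfullyFlat_of_flat_frobenius (hF : (frobenius R p).Flat) : i.FaithfullyFlat := by
  have hflat := flat_of_flat_frobenius p i hF
  let := i.toAlgebra
  change Module.FaithfullyFlat R L
  rw [Module.FaithfullyFlat.iff_flat_and_proper_ideal]
  refine ⟨hflat, fun I hI h => map_ne_top p i I hI ?_⟩
  have h2 : I.map (algebraMap R L) = ⊤ := by
    rw [eq_top_iff]
    intro x _
    have hx : x ∈ I • (⊤ : Submodule R L) := by rw [h]; trivial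
    rw [Ideal.smul_top_eq_map] at hx
    exact hx
  exact h2

end root

/-- The canonical map to the perfect closure is faithfully flat when Frobenius is flat. -/
theorem faithfullyFlat_of (p : ℕ) [Fact p.Prime] (R : Type u) [CommRing R] [CharP R p]
    (hF : (frobenius R p).Flat) : (PerfectClosure.of R p).FaithfullyFlat :=
  faithfullyFlat_of_flat_frobenius p (PerfectClosure.of R p) hF

end K675.PerfColim
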