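import Groth.Agent.FrobAlg.K675.PerfColim
import Groth.Prelude.Def_FrobAlg
import Mathlib.LinearAlgebra.DirectSum.Finsupp
import Mathlib.LinearAlgebra.TensorProduct.Tower

/-!
# Injectivity into products after base change to the perfect closure
-/

set_option autoImplicit false
universe u v w w'

namespace K675.PiInj

open TensorProduct K675.PerfColim

/-- Tensoring with a projective module preserves joint injectivity. -/
theorem projective_joint_injective {R : Type u} [CommRing R] {P : Type v} [AddCommGroup P]
    [Module R P] {X : Type w} [AddCommGroup X] [Module R X] {ι : Type*} {Y : ι → Type w'}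
    [∀ i, AddCommGroup (Y i)] [∀ i, Module R (Y i)] (f : ∀ i, X →ₗ[R] Y i)
    (hf : ∀ x, (∀ i, f i x = 0) → x = 0) [Module.Projective R P] (z : P ⊗[R] X)
    (hz : ∀ i, (f i).lTensor P z = 0) : z = 0 := by
  classical
  obtain ⟨s, hs⟩ := Module.projective_def'.1 ‹Module.Projective R P›
  let z' : (P →₀ R) ⊗[R] X := s.rTensor X z
  have hz' : ∀ i, (f i).lTensor (P →₀ R) z' = 0 := by
    intro i
    change ((f i).lTensor (P →₀ R)) (s.rTensor X z) = 0
    rw [← LinearMap.comp_apply, LinearMap.lTensor_comp_rTensor, ← LinearMap.rTensor_comp_lTensor,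
      LinearMap.comp_apply, hz, map_zero]
  have h0 : z' = 0 := by
    apply (TensorProduct.finsuppScalarLeft R X P).injective
    rw [map_zero]
    ext e
    rw [TensorProduct.finsuppScalarLeft_apply, Finsupp.zero_apply]
    apply hf
    intro i
    have h1 := hz' i
    have h2 : f i ((TensorProduct.lid R X) ((Finsupp.lapply e).rTensor X z')) =
        (TensorProduct.lid R (Y i)) ((Finsupp.lapply e).rTensor (Y i) ((f i).lTensor (P →₀ R) z')) := by
      generalize z' = t
      induction t using TensorProduct.induction_on with
      | zero => simp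
      | tmul a x => simp
      | add x y hx hy => simp only [map_add, hx, hy]
    rw [h2, h1, map_zero, map_zero]
  have h3 : z = (Finsupp.linearCombination R (id : P → P)).rTensor X z' := by
    change z = (LinearMap.rTensor X (Finsupp.linearCombination R (id : P → P))) (s.rTensor X z)
    rw [← LinearMap.comp_apply, ← LinearMap.rTensor_comp, hs, LinearMap.rTensor_id, LinearMap.id_apply]
  rw [h3, h0, map_zero]

/-- Transitivity of projectivity. -/
theorem projective_trans (R : Type u) (S : Type v) (P : Type w) [CommRing R] [CommRing S]
    [Algebra R S] [AddCommGroup P] [Module S P] [Module R P] [IsScalarTower R S P]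
    [Module.Projective R S] [Module.Projective S P] : Module.Projective R P := by
  classical
  obtain ⟨s, hs⟩ := Module.projective_def'.1 ‹Module.Projective S P›
  have : Module.Projective R (P →₀ S) :=
    Module.Projective.of_equiv (finsuppLequivDFinsupp R (ι := P) (M := S)).symm
  refine Module.Projective.of_split (s.restrictScalars R)
    ((Finsupp.linearCombination S (id : P → P)).restrictScalars R) ?_
  ext x
  exact LinearMap.congr_fun hs x

section

variable (p : ℕ) [Fact p.Prime] (R : Type u) [CommRing R] [CharP R p]

/-- If `R` is projective over itself through Frobenius, so it is through `F^n`. -/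
theorem rn_projective [h : Module.Projective R (FrobAlg.Twist p R)] (n : ℕ) :
    Module.Projective R (Rn p R n) := by
  induction n with
  | zero =>
    have : Function.Bijective (algebraMap R (Rn p R 0)) := by
      have h1 : (algebraMap R (Rn p R 0) : R → Rn p R 0) = toRn p R 0 := by
        funext a
        rw [algebraMap_rn, pow_zero, pow_one]
      rw [h1]
      exact (toRn p R 0).bijective
    exact Module.Projective.of_equiv (LinearEquiv.ofBijective (Algebra.linearMap R (Rn p R 0)) this)
  | succ n ih =>
    let a : Algebra (Rn p R n) (Rn p R (n + 1)) :=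
      ((toRn p R (n + 1) : R →+* _).comp ((frobenius R p).comp
        ((toRn p R n).symm : Rn p R n →+* R))).toAlgebra
    have : IsScalarTower R (Rn p R n) (Rn p R (n + 1)) := IsScalarTower.of_algebraMap_eq fun x => by
      change toRn p R (n + 1) (x ^ p ^ (n + 1)) = toRn p R (n + 1) ((x ^ p ^ n) ^ p)
      rw [pow_succ, pow_mul]
    have : Module.Projective (Rn p R n) (Rn p R (n + 1)) := h
    exact projective_trans R (Rn p R n) (Rn p R (n + 1))

/-- Base change to the perfect closure preserves joint injectivity if Frobenius is projective. -/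
theorem perfect_joint_injective [Module.Projective R (FrobAlg.Twist p R)]
    {L : Type v} [CommRing L] [CharP L p] [PerfectRing L p] [Algebra R L]
    [IsPRadical (algebraMap R L) p] {X : Type w} [AddCommGroup X] [Module R X] {ι : Type*}
    {Y : ι → Type w'} [∀ i, AddCommGroup (Y i)] [∀ i, Module R (Y i)] (f : ∀ i, X →ₗ[R] Y i)
    (hf : ∀ x, (∀ i, f i x = 0) → x = 0) (z : L ⊗[R] X)
    (hz : ∀ i, (f i).lTensor L z = 0) : z = 0 := by
  classical
  -- Frobenius is flat, hence `R → L` is faithfully flat
  have hFl : (frobenius R p).Flat := by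
    have h1 : Module.Flat R (FrobAlg.Twist p R) := inferInstance
    have h2 : ((FrobAlg.toTwist p R : R →+* FrobAlg.Twist p R).comp (frobenius R p)).Flat := h1
    have h3 : ((FrobAlg.toTwist p R).symm : FrobAlg.Twist p R →+* R).Flat :=
      RingHom.Flat.of_bijective (FrobAlg.toTwist p R).symm.bijective
    exact h2.comp h3
  have hff := faithfullyFlat_of_flat_frobenius p (algebraMap R L) hFl
  -- the maps `β n : Rn → L`
  let β : ∀ n : ℕ, Rn p R n →ₗ[R] L := fun n =>
    { toFun := fun r => root p (algebraMap R L) n ((toRn p R n).symm r)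
      map_add' := fun x y => by rw [map_add, map_add]
      map_smul' := fun a x => by
        rw [smul_rn, map_mul, map_mul, RingEquiv.symm_apply_apply, root_pow_self, RingHom.id_apply,
          Algebra.smul_def] }
  have hβ : ∀ n (r : R), β n (toRn p R n r) = root p (algebraMap R L) n r := fun n r => rfl
  -- transition maps
  have htrans : ∀ n k : ℕ, ∃ τ : Rn p R n →ₗ[R] Rn p R (n + k), (β (n + k)).comp τ = β n := by
    intro n k
    refine ⟨{ toFun := fun r => toRn p R (n + k) ((toRn p R n).symm r ^ p ^ k)
              map_add' := fun x y => by rw [map_add, add_pow_char_pow, map_add]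
              map_smul' := fun a x => by
                rw [smul_rn, smul_rn, RingHom.id_apply, map_mul, RingEquiv.symm_apply_apply,
                  mul_pow, ← pow_mul, ← pow_add, map_mul] }, ?_⟩
    ext r
    change β (n + k) (toRn p R (n + k) ((toRn p R n).symm r ^ p ^ k)) = _
    rw [hβ, root_add]
    rfl
  -- every element comes from a finite level
  have hex : ∃ (n : ℕ) (z' : Rn p R n ⊗[R] X), (β n).rTensor X z' = z := by
    clear hz
    induction z using TensorProduct.induction_on with
    | zero => exact ⟨0, 0, map_zero _⟩
    | tmul a x =>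
      obtain ⟨n, r, hr⟩ := exists_root p (algebraMap R L) a
      exact ⟨n, toRn p R n r ⊗ₜ x, by rw [LinearMap.rTensor_tmul, hβ, hr]⟩
    | add x y hx hy =>
      obtain ⟨n, x', hx'⟩ := hx
      obtain ⟨m, y', hy'⟩ := hy
      obtain ⟨τ, hτ⟩ := htrans n m
      obtain ⟨τ', hτ'⟩ := htrans m n
      obtain ⟨τ', hτ'⟩ : ∃ τ' : Rn p R m →ₗ[R] Rn p R (n + m), (β (n + m)).comp τ' = β m := by
        rw [add_comm n m]
        exact ⟨τ', hτ'⟩
      refine ⟨n + m, τ.rTensor X x' + τ'.rTensor X y', ?_⟩
      rw [map_add, ← LinearMap.comp_apply, ← LinearMap.rTensor_comp, hτ, hx',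
        ← LinearMap.comp_apply, ← LinearMap.rTensor_comp, hτ', hy']
  obtain ⟨n, z', rfl⟩ := hex
  -- `Rn ⊗ Y → L ⊗ Y` is injective
  have hinj : ∀ (Z : Type w') [AddCommGroup Z] [Module R Z] (t : Rn p R n ⊗[R] Z),
      (β n).rTensor Z t = 0 → t = 0 := by
    intro Z _ _ t ht
    let a : Algebra (Rn p R n) L :=
      ((root p (algebraMap R L) n).comp ((toRn p R n).symm : Rn p R n →+* R)).toAlgebra
    have : IsScalarTower R (Rn p R n) L := IsScalarTower.of_algebraMap_eq fun x => by
      change _ = root p (algebraMap R L) n (x ^ p ^ n)
      rw [root_pow_self]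
    have hff' : Module.FaithfullyFlat (Rn p R n) L := by
      have h3 : ((toRn p R n).symm : Rn p R n →+* R).FaithfullyFlat :=
        RingHom.FaithfullyFlat.of_bijective (toRn p R n).symm.bijective
      exact faithfullyFlat_comp _ _ h3 (root_faithfullyFlat p _ hff)
    apply Module.FaithfullyFlat.tensorProduct_mk_injective (A := Rn p R n) (B := L) (Rn p R n ⊗[R] Z)
    apply (TensorProduct.AlgebraTensorModule.cancelBaseChange R (Rn p R n) L L Z).injective
    rw [map_zero, map_zero, ← ht]
    clear ht
    induction t using TensorProduct.induction_on with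
    | zero => simp
    | tmul b x =>
      rw [TensorProduct.mk_apply, TensorProduct.AlgebraTensorModule.cancelBaseChange_tmul,
        LinearMap.rTensor_tmul, Algebra.smul_def, mul_one]
      rfl
    | add x y hx hy => rw [map_add, map_add, map_add, hx, hy]
  have := rn_projective p R n
  have h0 : z' = 0 := by
    apply projective_joint_injective f hf z'
    intro i
    apply hinj
    rw [← LinearMap.comp_apply, LinearMap.rTensor_comp_lTensor, ← LinearMap.lTensor_comp_rTensor,
      LinearMap.comp_apply]
    exact hz i
  rw [h0, map_zero]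

end

end K675.PiInj
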