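import Mathlib.Algebra.Polynomial.Identities
import Mathlib.Tactic.Ring

set_option autoImplicit false
universe v

namespace K675.PowLemmas

/-- If `n² = 0` in `B` then `(x + n y)^n = x^n`. -/
theorem add_natCast_mul_pow_eq (n : ℕ) {B : Type v} [CommRing B] (hp : (n : B) ^ 2 = 0)
    (x y : B) : (x + (n : B) * y) ^ n = x ^ n := by
  obtain ⟨c, hc⟩ := Polynomial.powAddExpansion x ((n : B) * y) n
  rw [hc, mul_pow, hp]
  have : (n : B) * x ^ (n - 1) * ((n : B) * y) = (n : B) ^ 2 * (x ^ (n - 1) * y) := by ring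
  rw [this, hp]
  ring

end K675.PowLemmas
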