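import Groth.Agent.FrobAlg.K673.PolyFrob

/-!
The forward direction of the criterion of S13139 (helper673), for an arbitrary finite index type of
variables and an arbitrary family of generators: if `k[x_σ] ⧸ (f_i)` is `F`-liftable then lifts of the
`f_i` satisfy the congruence for Frobenius residues.
-/

set_option autoImplicit false
set_option linter.unusedSectionVars false
universe u w

namespace K675.QuotLift

open FrobAlg K673.W2Basic K673.Lift K673.PolyFrob MvPolynomial

variable {p : ℕ} [Fact p.Prime] {k : Type u} [Field k] [CharP k p] [PerfectRing k p]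
  {σ : Type} [Fintype σ]

theorem exists_of_isFLiftable {τ : Type w} (f : τ → MvPolynomial σ k)
    (hF : FrobAlg.IsFLiftable p k (MvPolynomial σ k ⧸ Ideal.span (Set.range f))) :
    ∃ (f' : τ → MvPolynomial σ (FrobAlg.W2 p k)) (h : σ → MvPolynomial σ (FrobAlg.W2 p k)),
      (∀ i, MvPolynomial.map (FrobAlg.res p k) (f' i) = f i) ∧
      ∀ i, FrobAlg.polyFrob p k σ (f' i) - f' i ^ p
        - (p : MvPolynomial σ (FrobAlg.W2 p k)) * ∑ j, MvPolynomial.pderiv j (f' i) ^ p * h j
        ∈ Ideal.span {(p : MvPolynomial σ (FrobAlg.W2 p k))} * Ideal.span (Set.range f') := by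
  obtain ⟨B, _, ι, π, Φ, hΦ⟩ := hF
  have hL := hΦ.toIsLift
  let ψ : MvPolynomial σ (W2 p k) →+* B := MvPolynomial.eval₂Hom ι
    (fun j => Function.surjInv hL.surj (Ideal.Quotient.mk _ (X j)))
  have hψC : ψ.comp C = ι := by
    ext w
    rw [RingHom.comp_apply]
    exact MvPolynomial.eval₂Hom_C _ _ _
  have hψπ : ∀ x, π (ψ x) = Ideal.Quotient.mk _ (MvPolynomial.map (res p k) x) := by
    have : π.comp ψ = (Ideal.Quotient.mk _).comp (MvPolynomial.map (res p k)) := by
      refine MvPolynomial.ringHom_ext (fun w => ?_) (fun j => ?_)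
      · have e1 : ψ (C w) = ι w := by rw [← hψC]; rfl
        rw [RingHom.comp_apply, e1, ← RingHom.comp_apply, hL.comm, RingHom.comp_apply,
          RingHom.comp_apply, map_C]
        rfl
      · rw [RingHom.comp_apply, RingHom.comp_apply, map_X]
        have e1 : ψ (X j) = Function.surjInv hL.surj (Ideal.Quotient.mk _ (X j)) :=
          MvPolynomial.eval₂Hom_X' _ _ _
        rw [e1, Function.surjInv_eq hL.surj]
    exact fun x => RingHom.congr_fun this x
  have hmod : ∀ b, ∃ x c, b = ψ x + (p : B) * c := by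
    intro b
    obtain ⟨r, hr⟩ := Ideal.Quotient.mk_surjective (π b)
    obtain ⟨x, rfl⟩ := red_surjective (p := p) r
    have h1 : π (b - ψ x) = 0 := by rw [map_sub, hψπ, hr, sub_self]
    obtain ⟨c, hc⟩ := (IsLift.pi_eq_zero_iff hL _).1 h1
    exact ⟨x, c, by rw [← hc]; ring⟩
  have hpp : (p : B) * (p : B) = 0 := IsLift.natCast_mul_natCast hL
  have hpψ : ∀ b, ∃ x, (p : B) * b = (p : B) * ψ x := by
    intro b
    obtain ⟨x, c, rfl⟩ := hmod b
    exact ⟨x, by linear_combination c * hpp⟩
  have hψ : Function.Surjective ψ := by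
    intro b
    obtain ⟨x, c, rfl⟩ := hmod b
    obtain ⟨y, hy⟩ := hpψ c
    exact ⟨x + (p : MvPolynomial σ (W2 p k)) * y, by
      rw [map_add, map_mul, map_natCast, hy]⟩
  have hf' : ∀ i, ∃ f' : MvPolynomial σ (W2 p k),
      MvPolynomial.map (res p k) f' = f i ∧ ψ f' = 0 := by
    intro i
    obtain ⟨g, hg⟩ := red_surjective (p := p) (f i)
    have h1 : π (ψ g) = 0 := by
      rw [hψπ, hg, Ideal.Quotient.eq_zero_iff_mem]
      exact Ideal.subset_span ⟨i, rfl⟩
    obtain ⟨c, hc⟩ := (IsLift.pi_eq_zero_iff hL _).1 h1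
    obtain ⟨y, hy⟩ := hpψ c
    refine ⟨g - (p : MvPolynomial σ (W2 p k)) * y, ?_, ?_⟩
    · rw [map_sub, map_mul, IsLift.pi_natCast (isLift_mvPolynomial (p := p) (k := k)), zero_mul,
        sub_zero, hg]
    · rw [map_sub, map_mul, map_natCast, ← hy, hc, sub_self]
  choose f' hf'1 hf'2 using hf'
  have hle : Ideal.span (Set.range f') ≤ RingHom.ker ψ := by
    rw [Ideal.span_le]
    rintro _ ⟨i, rfl⟩
    exact hf'2 i
  have hkey : ∀ g ∈ RingHom.ker ψ, ∃ c ∈ RingHom.ker ψ,
      g - (p : MvPolynomial σ (W2 p k)) * c ∈ Ideal.span (Set.range f') := by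
    intro g hg
    have h1 : MvPolynomial.map (res p k) g ∈ (Ideal.span (Set.range f')).map
        (MvPolynomial.map (res p k)) := by
      rw [Ideal.map_span, ← Set.range_comp]
      have e1 : (MvPolynomial.map (res p k)) ∘ f' = f := funext hf'1
      rw [e1, ← Ideal.Quotient.eq_zero_iff_mem, ← hψπ, (RingHom.mem_ker).1 hg, map_zero]
    obtain ⟨j, hj, hjg⟩ := (Ideal.mem_map_iff_of_surjective _ red_surjective).1 h1
    have h2 : MvPolynomial.map (res p k) (g - j) = 0 := by rw [map_sub, hjg, sub_self]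
    obtain ⟨c, hc⟩ := (IsLift.pi_eq_zero_iff isLift_mvPolynomial _).1 h2
    have h3 : (p : B) * ψ c = 0 := by
      have h4 := congrArg ψ hc
      rw [map_sub, (RingHom.mem_ker).1 hg, (RingHom.mem_ker).1 (hle hj), sub_self, map_mul,
        map_natCast] at h4
      exact h4.symm
    rw [IsLift.natCast_mul_eq_zero_iff hL, IsLift.pi_eq_zero_iff hL] at h3
    obtain ⟨b, hb⟩ := h3
    obtain ⟨y, hy⟩ := hpψ b
    refine ⟨c - (p : MvPolynomial σ (W2 p k)) * y, ?_, ?_⟩
    · rw [RingHom.mem_ker, map_sub, map_mul, map_natCast, hb, hy, sub_self]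
    · have hpp' : (p : MvPolynomial σ (W2 p k)) * (p : MvPolynomial σ (W2 p k)) = 0 :=
        IsLift.natCast_mul_natCast (A := MvPolynomial σ k) isLift_mvPolynomial
      have : g - (p : MvPolynomial σ (W2 p k)) *
          (c - (p : MvPolynomial σ (W2 p k)) * y) = j := by
        linear_combination hc + y * hpp'
      rw [this]
      exact hj
  have hker : RingHom.ker ψ = Ideal.span (Set.range f') := by
    refine le_antisymm (fun g hg => ?_) hle
    obtain ⟨c, hc, hgc⟩ := hkey g hg
    obtain ⟨d, -, hcd⟩ := hkey c hc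
    have hpp' : (p : MvPolynomial σ (W2 p k)) * (p : MvPolynomial σ (W2 p k)) = 0 :=
        IsLift.natCast_mul_natCast (A := MvPolynomial σ k) isLift_mvPolynomial
    have : g = (g - (p : MvPolynomial σ (W2 p k)) * c) +
        (p : MvPolynomial σ (W2 p k)) * (c - (p : MvPolynomial σ (W2 p k)) * d) := by
      linear_combination d * hpp'
    rw [this]
    exact add_mem hgc (Ideal.mul_mem_left _ _ hcd)
  obtain ⟨h, hh⟩ := (exists_frobLift_iff hL ψ hψ hψC f' hker).1 ⟨Φ, hΦ.semi, hΦ.red⟩
  exact ⟨f', h, hf'1, hh⟩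

/-- `p`-th powers of polynomials lie in `k + (x_v ^ p)`. -/
theorem pow_mem (g : MvPolynomial σ k) :
    ∃ c : k, g ^ p - C c ∈ Ideal.span
      (Set.range fun v : σ => (X v : MvPolynomial σ k) ^ p) := by
  classical
  have hp0 : p ≠ 0 := (Fact.out : p.Prime).ne_zero
  induction g using MvPolynomial.induction_on with
  | C w => exact ⟨w ^ p, by rw [C_pow, sub_self]; exact zero_mem _⟩
  | add f g hf hg =>
    obtain ⟨c, hc⟩ := hf
    obtain ⟨d, hd⟩ := hg
    refine ⟨c + d, ?_⟩
    have : (f + g) ^ p - C (c + d) = (f ^ p - C c) + (g ^ p - C d) := by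
      rw [add_pow_char, C_add]; ring
    rw [this]
    exact add_mem hc hd
  | mul_X f i hf =>
    refine ⟨0, ?_⟩
    rw [map_zero, sub_zero, mul_pow]
    exact Ideal.mul_mem_left _ _ (Ideal.subset_span ⟨i, rfl⟩)

end K675.QuotLift
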