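import Groth.Prelude.Def_WittGrp

/-!
# Shift and Frobenius of truncated Witt vectors

For a ring `R` with `p = 0`, `V = shift : W_m(R) → W_{m+1}(R)`, `F = frob`:
`mul_shift : y * V x = V (F (y|_m) * x)`, `p_mul : p * y = V (F (y|_m))`,
`shift_injective`, `exists_shift_eq : w₀ = 0 → w = V z`, `coeff_zero_shift`.
-/

set_option autoImplicit false
universe u

namespace K675.TruncWitt

open WittGrp

variable {p : ℕ} [Fact p.Prime] {m : ℕ} {R : Type u} [CommRing R]

theorem coeff_zero_shift (x : TruncatedWittVector p m R) :
    (shift p (Nat.le_succ m) x).coeff 0 = 0 := by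
  rw [coeff_shift, dif_neg]
  simp

theorem coeff_succ_shift (x : TruncatedWittVector p m R) (i : Fin m) :
    (shift p (Nat.le_succ m) x).coeff i.succ = x.coeff i := by
  rw [coeff_shift, dif_pos (by simp)]
  congr 1
  ext
  simp

theorem shift_injective : Function.Injective (shift (R := R) p (Nat.le_succ m)) := by
  intro x y h
  ext i
  rw [← coeff_succ_shift x i, ← coeff_succ_shift y i, h]

theorem exists_shift_eq (w : TruncatedWittVector p (m + 1) R) (h : w.coeff 0 = 0) :
    ∃ z : TruncatedWittVector p m R, shift p (Nat.le_succ m) z = w := by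
  refine ⟨TruncatedWittVector.mk p fun i => w.coeff i.succ, ?_⟩
  ext i
  refine Fin.cases ?_ (fun j => ?_) i
  · rw [coeff_zero_shift, h]
  · rw [coeff_succ_shift, TruncatedWittVector.coeff_mk]

theorem mul_shift (hp : (p : R) = 0) (y : TruncatedWittVector p (m + 1) R)
    (x : TruncatedWittVector p m R) :
    y * shift p (Nat.le_succ m) x = shift p (Nat.le_succ m)
      (frob p m hp (TruncatedWittVector.truncate (Nat.le_succ m) y) * x) := by
  rcases subsingleton_or_nontrivial R with hR | hR
  · exact TruncatedWittVector.ext fun i => Subsingleton.elim _ _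
  · have : CharP R p := (CharP.charP_iff_prime_eq_zero Fact.out).mpr hp
    obtain ⟨X, rfl⟩ := WittVector.truncate_surjective p m R x
    obtain ⟨Y, rfl⟩ := WittVector.truncate_surjective p (m + 1) R y
    have h1 : m + 1 - m = 1 := by omega
    rw [TruncatedWittVector.truncate_wittVector_truncate, frob_truncate, ← map_mul, shift_truncate,
      shift_truncate, h1, Function.iterate_one, ← map_mul, mul_comm (WittVector.frobenius Y) X,
      WittVector.verschiebung_mul_frobenius, mul_comm]

theorem p_mul (hp : (p : R) = 0) (y : TruncatedWittVector p (m + 1) R) :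
    (p : TruncatedWittVector p (m + 1) R) * y = shift p (Nat.le_succ m)
      (frob p m hp (TruncatedWittVector.truncate (Nat.le_succ m) y)) := by
  rcases subsingleton_or_nontrivial R with hR | hR
  · exact TruncatedWittVector.ext fun i => Subsingleton.elim _ _
  · have : CharP R p := (CharP.charP_iff_prime_eq_zero Fact.out).mpr hp
    obtain ⟨Y, rfl⟩ := WittVector.truncate_surjective p (m + 1) R y
    have h1 : m + 1 - m = 1 := by omega
    rw [TruncatedWittVector.truncate_wittVector_truncate, frob_truncate, shift_truncate, h1,
      Function.iterate_one, WittVector.verschiebung_frobenius, map_mul, map_natCast, mul_comm]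

theorem coeff_zero_truncate (h : 0 < m) (y : TruncatedWittVector p (m + 1) R) :
    (TruncatedWittVector.truncate (Nat.le_succ m) y).coeff ⟨0, h⟩ = y.coeff 0 := by
  rw [TruncatedWittVector.coeff_truncate]
  rfl

theorem exists_truncate_eq (z : TruncatedWittVector p m R) :
    ∃ y : TruncatedWittVector p (m + 1) R,
      TruncatedWittVector.truncate (Nat.le_succ m) y = z := by
  obtain ⟨Z, rfl⟩ := WittVector.truncate_surjective p m R z
  exact ⟨WittVector.truncate (m + 1) Z, TruncatedWittVector.truncate_wittVector_truncate _ _⟩

end K675.TruncWitt
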